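import Cfsg.Agent.Lib.WeakClosureJ1.Local

/-!
The centraliser of `E` is `E` times the centraliser of the join of the weak closures, and the fusion in `S` is
controlled by the normaliser of `E`.
-/

set_option autoImplicit false
set_option linter.style.haveILetI false
set_option linter.unusedSectionVars false

namespace Cfsg.Agent.Lib.WeakClosureJ1

open Subgroup Cfsg.Agent.Lib.J1Order

local notation "A5" => alternatingGroup (Fin 5)
local notation "M2" => Multiplicative (ZMod 2)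

variable {G : Type*} [Group G]

/-- The join of the weak closures of the elements of `E#`. -/
def joinWc (S : Sylow 2 G) (t : G) : Subgroup G :=
  closure {x : G | ∃ u ∈ sylE S t, u ≠ 1 ∧ x ∈ wc u}

theorem wc_le_joinWc {S : Sylow 2 G} {t u : G} (hu : u ∈ sylE S t) (hu1 : u ≠ 1) :
    wc u ≤ joinWc S t := fun _ hx => subset_closure ⟨u, hu, hu1, hx⟩

/-- The standard elements of order three attached to the elements of `E#`. -/
def turns (S : Sylow 2 G) (t : G) : Subgroup G :=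
  closure {a : G | ∃ u ∈ sylE S t, u ≠ 1 ∧ ∃ ι, Frame (sylE S t) u ι ∧ a = ι (1, g3)}

namespace Setup

variable [Finite G] {t : G} {S : Sylow 2 G} (h : Setup t S)
include h

theorem t_ne_one : t ≠ 1 := fun e => by
  have := h.order; rw [e, orderOf_one] at this; norm_num at this

theorem E_le_joinWc : sylE S t ≤ joinWc S t :=
  fun x hx => wc_le_joinWc h.t_mem_E h.t_ne_one hx.2

theorem wc_t_le_joinWc : wc t ≤ joinWc S t := wc_le_joinWc h.t_mem_E h.t_ne_one

theorem centralizer_join_le : centralizer (joinWc S t : Set G) ≤ centralizer (sylE S t : Set G) :=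
  centralizer_le h.E_le_joinWc

theorem centralizer_E_le_t {g : G} (hg : g ∈ centralizer (sylE S t : Set G)) : g * t = t * g :=
  (hg t h.t_mem_E).symm

theorem le_normalizer_E : (S : Subgroup G) ≤ normalizer (sylE S t : Set G) :=
  h.le_centralizer_E.trans (centralizer_le_normalizer _)

theorem odd_index_E : Odd ((centralizer (sylE S t : Set G)).index) := by
  haveI : Fact (Nat.Prime 2) := ⟨Nat.prime_two⟩
  refine Odd.of_dvd_nat ?_ (index_dvd_of_le h.le_centralizer_E)
  exact Nat.not_even_iff_odd.1 fun he => S.not_dvd_index (even_iff_two_dvd.1 he)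

/-- An element normalising `E` has an odd power centralising it. -/
theorem exists_odd_pow {n : G} (hn : n ∈ normalizer (sylE S t : Set G)) :
    ∃ m : ℕ, Odd m ∧ n ^ m ∈ centralizer (sylE S t : Set G) := by
  set C := centralizer (sylE S t : Set G)
  set N := normalizer (sylE S t : Set G)
  haveI : (C.subgroupOf N).Normal := Subgroup.normal_subgroupOf_iff_le_normalizer
    (centralizer_le_normalizer _) |>.2 fun g hg => by
      refine mem_normalizer_iff.2 fun c => ?_
      have key : ∀ g ∈ N, ∀ c ∈ C, g * c * g⁻¹ ∈ C := fun g hg c hc e he => by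
        have he' := (mem_normalizer_iff''.1 hg e).1 he
        calc e * (g * c * g⁻¹) = g * ((g⁻¹ * e * g) * c) * g⁻¹ := by group
          _ = g * (c * (g⁻¹ * e * g)) * g⁻¹ := by rw [hc _ he']
          _ = g * c * g⁻¹ * e := by group
      refine ⟨key g hg c, fun hc => ?_⟩
      have := key g⁻¹ (inv_mem hg) _ hc
      rwa [show g⁻¹ * (g * c * g⁻¹) * g⁻¹⁻¹ = c by group] at this
  refine ⟨(C.subgroupOf N).index, Odd.of_dvd_nat h.odd_index_E
    (relIndex_dvd_index_of_le (centralizer_le_normalizer _)), ?_⟩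
  exact mem_subgroupOf.1 ((C.subgroupOf N).pow_index_mem ⟨n, hn⟩)

/-- Commutators in the centraliser of `E` centralise every weak closure. -/
theorem comm_mem_centralizer_wc {u : G} (hu : u ∈ sylE S t) (hu1 : u ≠ 1) {r k : G}
    (hr : r ∈ centralizer (sylE S t : Set G)) (hk : k ∈ centralizer (sylE S t : Set G)) :
    k * r * k⁻¹ * r⁻¹ ∈ centralizer (wc u : Set G) := by
  obtain ⟨ι, hι⟩ := h.exists_frame hu hu1
  obtain ⟨v, hv, hx⟩ := hι.decomp hr
  obtain ⟨w, hw, hy⟩ := hι.decomp hk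
  set x := (ι (1, v))⁻¹ * r with hxdef
  set y := (ι (1, w))⁻¹ * k with hydef
  set a := ι (1, v)
  set b := ι (1, w)
  have hr' : r = a * x := by rw [hxdef]; group
  have hk' : k = b * y := by rw [hydef]; group
  have hab : a * b = b * a := hι.E_comm _ (hι.four_mem 1 hv) _ (hι.four_mem 1 hw)
  have hya : y * a = a * y := (hy a (hι.mem _)).symm
  have hxb : x * b⁻¹ = b⁻¹ * x := by
    have := hx b⁻¹ (inv_mem (hι.mem _))
    exact this.symm
  have key : k * r * k⁻¹ * r⁻¹ = y * x * y⁻¹ * x⁻¹ := by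
    have hyx : (y * x * y⁻¹) * b⁻¹ = b⁻¹ * (y * x * y⁻¹) :=
      ((centralizer (wc u : Set G)).mul_mem ((centralizer (wc u : Set G)).mul_mem hy hx)
        ((centralizer (wc u : Set G)).inv_mem hy) b⁻¹ (inv_mem (hι.mem _))).symm
    have hax : (y * x * y⁻¹ * x⁻¹) * a⁻¹ = a⁻¹ * (y * x * y⁻¹ * x⁻¹) :=
      ((centralizer (wc u : Set G)).mul_mem ((centralizer (wc u : Set G)).mul_mem
        ((centralizer (wc u : Set G)).mul_mem hy hx) ((centralizer (wc u : Set G)).inv_mem hy))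
        ((centralizer (wc u : Set G)).inv_mem hx) a⁻¹ (inv_mem (hι.mem _))).symm
    rw [hr', hk']
    calc b * y * (a * x) * (b * y)⁻¹ * (a * x)⁻¹ = b * (y * a) * x * y⁻¹ * b⁻¹ * x⁻¹ * a⁻¹ := by group
      _ = (b * a) * ((y * x * y⁻¹) * b⁻¹) * x⁻¹ * a⁻¹ := by rw [hya]; group
      _ = (a * b) * (b⁻¹ * (y * x * y⁻¹)) * x⁻¹ * a⁻¹ := by rw [hyx, hab]
      _ = a * ((y * x * y⁻¹ * x⁻¹) * a⁻¹) := by group
      _ = y * x * y⁻¹ * x⁻¹ := by rw [hax]; group
  rw [key]
  exact mul_mem (mul_mem (mul_mem hy hx) (inv_mem hy)) (inv_mem hx)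

/-- No non-trivial element of `E` centralises all the weak closures. -/
theorem eq_one_of_forall {e : G} (he : e ∈ sylE S t)
    (hall : ∀ u ∈ sylE S t, u ≠ 1 → e ∈ centralizer (wc u : Set G)) : e = 1 := by
  obtain ⟨κ, hκ⟩ := h.exists_frame_t
  have key : ∀ u ∈ sylE S t, u ≠ 1 → e = 1 ∨ e = u := by
    intro u hu hu1
    obtain ⟨ι, hι⟩ := h.exists_frame hu hu1
    obtain ⟨⟨m, v⟩, hd, rfl⟩ := hι.mem_E.1 he
    have hc : ι ((m, v) * (1, g3)) = ι (((1 : M2), g3) * (m, v)) := by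
      rw [map_mul, map_mul]; exact (hall u hu hu1 _ (hι.mem _)).symm
    have h2 := congrArg Prod.snd (hι.inj hc)
    obtain rfl : v = 1 := g3_fix v (mem_P8.1 hd) (mul_inv_eq_iff_eq_mul.2 h2.symm)
    rcases fst_cases m with rfl | rfl
    · exact Or.inl (map_one ι)
    · exact Or.inr hι.zed
  have hs : κ (1, s0) ≠ 1 := fun e0 =>
    absurd (congrArg Prod.snd (hκ.inj (e0.trans (map_one κ).symm))) (by decide +kernel)
  have hne : κ (1, s0) ≠ t := fun e0 =>
    absurd (congrArg Prod.fst (hκ.inj (e0.trans hκ.zed.symm))) (by decide +kernel)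
  rcases key t h.t_mem_E h.t_ne_one with h1 | h1
  · exact h1
  rcases key _ (hκ.four_mem 1 (by simp)) hs with h2 | h2
  · exact h2
  · exact absurd (h2.symm.trans h1) hne

theorem turns_le_joinWc : turns S t ≤ joinWc S t := by
  refine (closure_le _).2 ?_
  rintro _ ⟨u, hu, hu1, ι, hι, rfl⟩
  exact wc_le_joinWc hu hu1 (hι.mem _)

theorem turns_spec {n : G} (hn : n ∈ turns S t) :
    n ∈ normalizer (sylE S t : Set G) ∧
      ∀ r ∈ centralizer (sylE S t : Set G), n * r * n⁻¹ * r⁻¹ ∈ sylE S t := by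
  set E := sylE S t
  obtain ⟨κ, hκ⟩ := h.exists_frame_t
  have hN : ∀ n ∈ normalizer (E : Set G), ∀ c ∈ centralizer (E : Set G),
      n * c * n⁻¹ ∈ centralizer (E : Set G) := fun g hg c hc e he => by
    have he' := (mem_normalizer_iff''.1 hg e).1 he
    calc e * (g * c * g⁻¹) = g * ((g⁻¹ * e * g) * c) * g⁻¹ := by group
      _ = g * (c * (g⁻¹ * e * g)) * g⁻¹ := by rw [hc _ he']
      _ = g * c * g⁻¹ * e := by group
  let P : Subgroup G :=
    { carrier := {n | n ∈ normalizer (E : Set G) ∧ ∀ r ∈ centralizer (E : Set G), n * r * n⁻¹ * r⁻¹ ∈ E}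
      one_mem' := ⟨one_mem _, fun r _ => by simp⟩
      mul_mem' := fun {a b} ha hb => ⟨mul_mem ha.1 hb.1, fun r hr => by
        rw [show a * b * r * (a * b)⁻¹ * r⁻¹ =
          (a * (b * r * b⁻¹ * r⁻¹) * a⁻¹) * (a * r * a⁻¹ * r⁻¹) by group]
        exact mul_mem ((mem_normalizer_iff.1 ha.1 _).1 (hb.2 r hr)) (ha.2 r hr)⟩
      inv_mem' := fun {a} ha => ⟨inv_mem ha.1, fun r hr => by
        have h1 := ha.2 _ (hN a⁻¹ (inv_mem ha.1) r hr)
        rw [show a * (a⁻¹ * r * a⁻¹⁻¹) * a⁻¹ * (a⁻¹ * r * a⁻¹⁻¹)⁻¹ = (a⁻¹ * r * a⁻¹⁻¹ * r⁻¹)⁻¹ by group] at h1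
        simpa using inv_mem h1⟩ }
  suffices hle : turns S t ≤ P from hle hn
  refine (closure_le _).2 ?_
  rintro _ ⟨u, hu, hu1, ι, hι, rfl⟩
  have hnorm : ι (1, g3) ∈ normalizer (E : Set G) := by
    refine mem_normalizer_iff_map_conj_eq.2 (eq_of_le_of_card_ge ?_
      (card_map_of_injective (MulAut.conj _).injective).ge)
    rintro _ ⟨x, hx, rfl⟩
    obtain ⟨⟨m, v⟩, hd, rfl⟩ := hι.mem_E.1 hx
    refine hι.mem_E.2 ⟨(1, g3) * (m, v) * (1, g3)⁻¹, mem_P8.2 ?_, by rw [map_mul, map_mul, map_inv]; rfl⟩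
    exact g3_normalizes v (mem_P8.1 hd)
  refine ⟨hnorm, fun r hr => ?_⟩
  obtain ⟨v, hv, hx⟩ := hι.decomp hr
  set x := (ι (1, v))⁻¹ * r with hxdef
  have hr' : r = ι (1, v) * x := by rw [hxdef]; group
  have hxa : x * (ι (1, g3))⁻¹ = (ι (1, g3))⁻¹ * x := (hx _ (inv_mem (hι.mem _))).symm
  rw [hr', show ι (1, g3) * (ι (1, v) * x) * (ι (1, g3))⁻¹ * (ι (1, v) * x)⁻¹ =
      ι (1, g3) * ι (1, v) * (x * (ι (1, g3))⁻¹) * x⁻¹ * (ι (1, v))⁻¹ by group, hxa,
    show ι (1, g3) * ι (1, v) * ((ι (1, g3))⁻¹ * x) * x⁻¹ * (ι (1, v))⁻¹ =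
      ι (1, g3) * ι (1, v) * (ι (1, g3))⁻¹ * (ι (1, v))⁻¹ by group]
  exact mul_mem ((mem_normalizer_iff.1 hnorm _).1 (hι.four_mem 1 hv)) (inv_mem (hι.four_mem 1 hv))

/-- The centraliser of `E` is `E` times the centraliser of the join of the weak closures. -/
theorem exists_decomp {r : G} (hr : r ∈ centralizer (sylE S t : Set G)) :
    ∃ e ∈ sylE S t, e * r ∈ centralizer (joinWc S t : Set G) := by
  classical
  set E := sylE S t with hE
  set C := centralizer (E : Set G) with hC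
  set F := turns S t with hF
  obtain ⟨κ, hκ⟩ := h.exists_frame_t
  haveI : IsMulCommutative E :=
    ⟨⟨fun a b => Subtype.ext (hκ.E_comm _ a.2 _ b.2)⟩⟩
  -- kernel elements fix `r`
  have hker : ∀ k ∈ F, k ∈ C → k * r * k⁻¹ = r := by
    intro k hkF hkC
    refine mul_inv_eq_one.1 (h.eq_one_of_forall ((h.turns_spec hkF).2 r hr) fun u hu hu1 => ?_)
    exact h.comm_mem_centralizer_wc hu hu1 hr hkC
  let K := C.subgroupOf F
  have hodd : Odd K.index := by
    have h1 : C.relIndex F ∣ C.index := by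
      haveI : (C.subgroupOf (normalizer (E : Set G))).Normal := by
        refine Subgroup.normal_subgroupOf_iff_le_normalizer (centralizer_le_normalizer _) |>.2 ?_
        intro g hg
        refine mem_normalizer_iff.2 fun c => ?_
        have key : ∀ g ∈ normalizer (E : Set G), ∀ c ∈ C, g * c * g⁻¹ ∈ C := fun g hg c hc e he => by
          have he' := (mem_normalizer_iff''.1 hg e).1 he
          calc e * (g * c * g⁻¹) = g * ((g⁻¹ * e * g) * c) * g⁻¹ := by group
            _ = g * (c * (g⁻¹ * e * g)) * g⁻¹ := by rw [hc _ he']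
            _ = g * c * g⁻¹ * e := by group
        refine ⟨key g hg c, fun hc => ?_⟩
        have := key g⁻¹ (inv_mem hg) _ hc
        rwa [show g⁻¹ * (g * c * g⁻¹) * g⁻¹⁻¹ = c by group] at this
      refine dvd_trans ?_ (relIndex_dvd_index_of_le (centralizer_le_normalizer (E : Set G)))
      let φ : F →* normalizer (E : Set G) ⧸ C.subgroupOf (normalizer (E : Set G)) :=
        (QuotientGroup.mk' _).comp (inclusion fun n hn => (h.turns_spec hn).1)
      have hker' : φ.ker = C.subgroupOf F := by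
        ext n
        rw [MonoidHom.mem_ker, MonoidHom.comp_apply, QuotientGroup.mk'_apply, QuotientGroup.eq_one_iff,
          mem_subgroupOf, mem_subgroupOf]
        rfl
      rw [relIndex, relIndex, ← hker', index_ker, index_eq_card (C.subgroupOf (normalizer (E : Set G)))]
      exact φ.range.card_subgroup_dvd_card
    exact Odd.of_dvd_nat h.odd_index_E h1
  let c : F → E := fun n => ⟨(n : G) * r * (n : G)⁻¹ * r⁻¹, (h.turns_spec n.2).2 r hr⟩
  have hc : ∀ a b : F, a⁻¹ * b ∈ K → c a = c b := by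
    intro a b hab
    refine Subtype.ext ?_
    show (a : G) * r * (a : G)⁻¹ * r⁻¹ = (b : G) * r * (b : G)⁻¹ * r⁻¹
    have h2 := hker _ (a⁻¹ * b : F).2 (mem_subgroupOf.1 hab)
    simp only [coe_mul, coe_inv] at h2
    calc (a : G) * r * (a : G)⁻¹ * r⁻¹ = a * ((a : G)⁻¹ * b * r * ((a : G)⁻¹ * b)⁻¹) * (a : G)⁻¹ * r⁻¹ := by
          rw [h2]
      _ = _ := by group
  let c' : F ⧸ K → E := Quotient.lift c fun a b hab => hc a b (QuotientGroup.leftRel_apply.1 hab)
  letI : Fintype (F ⧸ K) := Fintype.ofFinite _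
  letI : CommGroup E := IsMulCommutative.instCommGroup
  let e : E := ∏ q, c' q
  refine ⟨e, e.2, ?_⟩
  have hfix : ∀ n ∈ F, n * ((e : G) * r) * n⁻¹ = (e : G) * r := by
    intro n hn
    let cn : E →* E :=
      { toFun := fun y => ⟨n * y * n⁻¹, (mem_normalizer_iff.1 (h.turns_spec hn).1 _).1 y.2⟩
        map_one' := Subtype.ext (by simp)
        map_mul' := fun a b => Subtype.ext (by simp [mul_assoc]) }
    have hcn : ∀ q, c' ((⟨n, hn⟩ : F) • q) = cn (c' q) * c ⟨n, hn⟩ := by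
      intro q
      induction q using QuotientGroup.induction_on with | H a =>
      refine Subtype.ext ?_
      show n * a * r * (n * a : G)⁻¹ * r⁻¹ = n * ((a : G) * r * (a : G)⁻¹ * r⁻¹) * n⁻¹ * (n * r * n⁻¹ * r⁻¹)
      group
    have hsum : cn e * c ⟨n, hn⟩ ^ Nat.card (F ⧸ K) = e := by
      rw [Nat.card_eq_fintype_card, ← Finset.card_univ, map_prod, ← Finset.prod_const,
        ← Finset.prod_mul_distrib, ← Fintype.prod_congr _ _ hcn]
      exact Fintype.prod_equiv (MulAction.toPerm (⟨n, hn⟩ : F)) _ _ fun q => rfl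
    have hsq : ∀ y : E, y * y = 1 := fun y => Subtype.ext (hκ.E_sq _ y.2)
    obtain ⟨j, hj⟩ : Odd (Nat.card (F ⧸ K)) := by rw [← index_eq_card]; exact hodd
    rw [hj, pow_succ, pow_mul, pow_two, hsq, one_pow, one_mul] at hsum
    have h3 : n * (e : G) * n⁻¹ * (n * r * n⁻¹ * r⁻¹) = e := congrArg Subtype.val hsum
    calc n * ((e : G) * r) * n⁻¹ = n * (e : G) * n⁻¹ * (n * r * n⁻¹ * r⁻¹) * r := by group
      _ = e * r := by rw [h3]
  have her : (e : G) * r ∈ C := mul_mem (fun y hy => hκ.E_comm y hy _ e.2) hr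
  show (e : G) * r ∈ centralizer (joinWc S t : Set G)
  rw [joinWc, centralizer_closure]
  rintro x ⟨u, hu, hu1, hx⟩
  obtain ⟨ι, hι⟩ := h.exists_frame hu hu1
  obtain ⟨v, hv, hy⟩ := hι.decomp her
  set y := (ι (1, v))⁻¹ * ((e : G) * r) with hydef
  have her' : (e : G) * r = ι (1, v) * y := by rw [hydef]; group
  have hf := hfix _ (subset_closure ⟨u, hu, hu1, ι, hι, rfl⟩)
  have hya : y * (ι (1, g3))⁻¹ = (ι (1, g3))⁻¹ * y := (hy _ (inv_mem (hι.mem _))).symm
  rw [her', show ι (1, g3) * (ι (1, v) * y) * (ι (1, g3))⁻¹ = ι (1, g3) * ι (1, v) * (y * (ι (1, g3))⁻¹) by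
    group, hya, ← mul_assoc, mul_left_inj, ← map_inv, ← map_mul, ← map_mul] at hf
  obtain rfl : v = 1 := g3_fix v hv (congrArg Prod.snd (hι.inj hf))
  have : (e : G) * r = y := by rw [hydef, show ι ((1 : M2), (1 : A5)) = 1 from map_one ι]; group
  rw [this]
  exact hy x hx

/-- The centraliser of an element of `E#` is its weak closure times the centraliser of the join. -/
theorem exists_mul {u : G} (hu : u ∈ sylE S t) (hu1 : u ≠ 1) {g : G} (hg : g ∈ centralizer ({u} : Set G)) :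
    ∃ w ∈ wc u, ∃ q ∈ centralizer (joinWc S t : Set G), g = w * q := by
  obtain ⟨ι, hι⟩ := h.exists_frame hu hu1
  have hgu := mem_centralizer_singleton_iff.1 hg
  set E := sylE S t
  -- move `E` back
  obtain ⟨a, ha, hm⟩ := hι.toEmb.adjust (P := E.map (MulAut.conj g).toMonoidHom)
    (by rintro _ ⟨x, hx, rfl⟩; exact conj_mem_wc_self hgu (hι.E_le hx))
    (by rw [card_map_of_injective (MulAut.conj g).injective, h.card_sylE])
  set w := ι a with hw
  have hwu : w * u = u * w := hι.comm a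
  set n := w⁻¹ * g with hn
  have hnN : n ∈ normalizer (E : Set G) := by
    refine mem_normalizer_iff_map_conj_eq.2 (eq_of_le_of_card_ge ?_
      (card_map_of_injective (MulAut.conj _).injective).ge)
    rintro _ ⟨x, hx, rfl⟩
    obtain ⟨d, hd, hdx⟩ : g * x * g⁻¹ ∈ P8.map (ι.comp (MulAut.conj a).toMonoidHom) := hm ▸ ⟨x, hx, rfl⟩
    have : g * x * g⁻¹ = w * ι d * w⁻¹ := by
      rw [← hdx]; show ι (a * d * a⁻¹) = _; rw [map_mul, map_mul, map_inv]
    show n * x * n⁻¹ ∈ E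
    rw [show n * x * n⁻¹ = w⁻¹ * (g * x * g⁻¹) * w by rw [hn]; group, this,
      show w⁻¹ * (w * ι d * w⁻¹) * w = ι d by group]
    exact hι.apply_mem hd
  have hnu : n * u = u * n := by
    rw [hn, mul_assoc, hgu, ← mul_assoc, ← mul_assoc]
    congr 1
    rw [eq_comm, eq_inv_mul_iff_mul_eq, ← mul_assoc, hwu, mul_inv_cancel_right]
  -- a power of the turn fixes `ι (1, s0)`
  obtain ⟨b, hb⟩ := hι.conj_inr hnu s0
  have hb4 : b = s0 ∨ b = s1 ∨ b = s0 * s1 := by
    obtain ⟨d, hd, hdx⟩ := hι.mem_E.1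
      (hb ▸ (mem_normalizer_iff.1 hnN _).1 (hι.four_mem 1 (Or.inr (Or.inl rfl))))
    rw [hι.inj hdx] at hd
    refine (mem_P8.1 hd).resolve_left fun e => ?_
    change b = 1 at e
    rw [e, show ι ((1 : M2), (1 : A5)) = 1 from map_one ι, conj_eq_one_iff] at hb
    exact absurd (congrArg Prod.snd (hι.inj (hb.trans (map_one ι).symm))) (by decide +kernel)
  obtain ⟨j, hj⟩ : ∃ j : Fin 3, g3 ^ (j : ℕ) * b * (g3 ^ (j : ℕ))⁻¹ = s0 := by
    revert b
    intro b _ hb4
    rcases hb4 with rfl | rfl | rfl <;> decide +kernel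
  set n' := ι (1, g3 ^ (j : ℕ)) * n with hn'
  have hn'N : n' ∈ normalizer (E : Set G) := by
    refine mul_mem ?_ hnN
    rw [show ((1 : M2), g3 ^ (j : ℕ)) = ((1 : M2), g3) ^ (j : ℕ) from Prod.ext (by simp) (by simp), map_pow]
    exact pow_mem ((h.turns_spec (subset_closure ⟨u, hu, hu1, ι, hι, rfl⟩)).1) _
  have hn'u : n' * u = u * n' := by
    have := hι.comm (1, g3 ^ (j : ℕ))
    rw [hn']
    calc ι (1, g3 ^ (j : ℕ)) * n * u = ι (1, g3 ^ (j : ℕ)) * (n * u) := mul_assoc _ _ _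
      _ = ι (1, g3 ^ (j : ℕ)) * u * n := by rw [hnu, mul_assoc]
      _ = u * (ι (1, g3 ^ (j : ℕ)) * n) := by rw [this, mul_assoc]
  have hn's : n' * ι (1, s0) * n'⁻¹ = ι (1, s0) := by
    rw [hn', show ι (1, g3 ^ (j : ℕ)) * n * ι (1, s0) * (ι (1, g3 ^ (j : ℕ)) * n)⁻¹ =
      ι (1, g3 ^ (j : ℕ)) * (n * ι (1, s0) * n⁻¹) * (ι (1, g3 ^ (j : ℕ)))⁻¹ by group, hb,
      ← map_inv, ← map_mul, ← map_mul]
    exact congrArg ι (Prod.ext (by simp) hj)
  -- its square centralises `E`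
  obtain ⟨c, hc⟩ := hι.conj_inr hn'u s1
  have hc2 : c = s1 ∨ c = s0 * s1 := by
    obtain ⟨d, hd, hdx⟩ := hι.mem_E.1
      (hc ▸ (mem_normalizer_iff.1 hn'N _).1 (hι.four_mem 1 (Or.inr (Or.inr (Or.inl rfl)))))
    rw [hι.inj hdx] at hd
    rcases mem_P8.1 hd with e | e | e | e
    · change c = 1 at e
      rw [e, show ι ((1 : M2), (1 : A5)) = 1 from map_one ι, conj_eq_one_iff] at hc
      exact absurd (congrArg Prod.snd (hι.inj (hc.trans (map_one ι).symm))) (by decide +kernel)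
    · change c = s0 at e
      rw [e, ← hn's] at hc
      exact absurd (congrArg Prod.snd (hι.inj (mul_left_cancel (mul_right_cancel hc)))) (by decide +kernel)
    · exact Or.inl e
    · exact Or.inr e
  have hsq1 : n' * (n' * ι (1, s1) * n'⁻¹) * n'⁻¹ = ι (1, s1) := by
    rcases hc2 with rfl | rfl
    · rw [hc, hc]
    · rw [hc, show ((1 : M2), s0 * s1) = ((1 : M2), s0) * (1, s1) from Prod.ext (by simp) rfl, map_mul,
        show n' * (ι (1, s0) * ι (1, s1)) * n'⁻¹ = (n' * ι (1, s0) * n'⁻¹) * (n' * ι (1, s1) * n'⁻¹) by group,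
        hn's, hc, ← map_mul]
      refine congrArg ι (Prod.ext (by simp) ?_)
      show s0 * (s0 * s1) = s1
      decide +kernel
  have hsq : n' ^ 2 ∈ centralizer (E : Set G) := by
    have h0 : ι (1, s0) ∈ centralizer ({n' ^ 2} : Set G) := mem_centralizer_singleton_iff.2 (by
      have e : Commute n' (ι (1, s0)) := mul_inv_eq_iff_eq_mul.1 hn's
      exact (e.pow_left 2).symm)
    have h1 : ι (1, s1) ∈ centralizer ({n' ^ 2} : Set G) := mem_centralizer_singleton_iff.2 (by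
      rw [pow_two]
      calc ι (1, s1) * (n' * n') = n' * (n' * ι (1, s1) * n'⁻¹) * n'⁻¹ * (n' * n') := by rw [hsq1]
        _ = n' * n' * ι (1, s1) := by group)
    have hu2 : u ∈ centralizer ({n' ^ 2} : Set G) := mem_centralizer_singleton_iff.2
      (Commute.pow_left (show Commute n' u from hn'u) 2).symm
    intro x hx
    obtain ⟨⟨m, v⟩, hd, rfl⟩ := hι.mem_E.1 hx
    refine mem_centralizer_singleton_iff.1 ?_
    rw [show ((m, v) : Model) = (m, 1) * (1, v) from Prod.ext (by simp) (by simp), map_mul]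
    refine mul_mem ?_ ?_
    · rcases fst_cases m with rfl | rfl
      · exact (map_one ι).symm ▸ one_mem _
      · exact (show ι ((Multiplicative.ofAdd 1 : M2), 1) = u from hι.zed) ▸ hu2
    · rcases mem_P8.1 hd with e | e | e | e <;> change v = _ at e <;> subst e
      · exact (map_one ι).symm ▸ one_mem _
      · exact h0
      · exact h1
      · rw [show ((1 : M2), s0 * s1) = ((1 : M2), s0) * (1, s1) from Prod.ext (by simp) rfl, map_mul]
        exact mul_mem h0 h1
  obtain ⟨m, ⟨k, rfl⟩, hmem⟩ := h.exists_odd_pow hn'N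
  have hn'C : n' ∈ centralizer (E : Set G) := by
    have := mul_mem (inv_mem (pow_mem hsq k)) hmem
    rwa [← pow_mul, pow_succ, ← mul_assoc, inv_mul_cancel, one_mul] at this
  obtain ⟨e, he, heq⟩ := h.exists_decomp hn'C
  have : g = w * (ι (1, g3 ^ (j : ℕ)))⁻¹ * e⁻¹ * (e * n') := by rw [hn', hn]; group
  exact ⟨_, mul_mem (mul_mem (hι.mem a) (inv_mem (hι.mem _))) (inv_mem (hι.E_le he)), _, heq, this⟩

theorem centralizer_le_sup {u : G} (hu : u ∈ sylE S t) (hu1 : u ≠ 1) :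
    centralizer ({u} : Set G) ≤ wc u ⊔ centralizer (joinWc S t : Set G) := fun _ hg => by
  obtain ⟨w, hw, q, hq, rfl⟩ := h.exists_mul hu hu1 hg
  exact mul_mem (mem_sup_left hw) (mem_sup_right hq)

theorem conj_mem_joinWc {n : G} (hn : n ∈ normalizer (sylE S t : Set G)) {x : G} (hx : x ∈ joinWc S t) :
    n * x * n⁻¹ ∈ joinWc S t := by
  refine (map_le_iff_le_comap.1 ?_ : joinWc S t ≤ (joinWc S t).comap (MulAut.conj n).toMonoidHom) hx
  rw [joinWc, MonoidHom.map_closure, closure_le]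
  rintro _ ⟨y, ⟨u, hu, hu1, hy⟩, rfl⟩
  exact subset_closure ⟨n * u * n⁻¹, (mem_normalizer_iff.1 hn u).1 hu,
    fun e => hu1 (conj_eq_one_iff.1 e), conj_mem_wc n hy⟩

/-- `S ∩ C(L)` is strongly closed in `S`. -/
theorem stronglyClosed_cent :
    Cfsg.IsStronglyClosed ((S : Subgroup G) ⊓ centralizer (joinWc S t : Set G)) (S : Subgroup G) := by
  refine ⟨inf_le_left, fun r hr g hg => ⟨hg, ?_⟩⟩
  have hcE : ∀ y ∈ (S : Subgroup G), ∀ e ∈ sylE S t, e * y = y * e :=
    fun y hy e he => h.le_centralizer_E hy e he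
  obtain ⟨c, hc1, hc2⟩ := h.exists_normalizing (x := g * r * g⁻¹) (g := g) (hcE _ hg) (fun e he => by
    calc g * e * g⁻¹ * (g * r * g⁻¹) = g * (e * r) * g⁻¹ := by group
      _ = g * (r * e) * g⁻¹ := by rw [hcE r hr.1 e he]
      _ = g * r * g⁻¹ * (g * e * g⁻¹) := by group)
  have heq : g * r * g⁻¹ = (c * g) * r * (c * g)⁻¹ := by
    rw [show c * g * r * (c * g)⁻¹ = c * (g * r * g⁻¹) * c⁻¹ by group, hc1, mul_inv_cancel_right]
  rw [heq]
  intro x hx
  have hx' := hr.2 _ (h.conj_mem_joinWc (inv_mem hc2) hx)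
  calc x * (c * g * r * (c * g)⁻¹) = (c * g) * ((c * g)⁻¹ * x * (c * g)⁻¹⁻¹ * r) * (c * g)⁻¹ := by group
    _ = (c * g) * (r * ((c * g)⁻¹ * x * (c * g)⁻¹⁻¹)) * (c * g)⁻¹ := by rw [hx']
    _ = (c * g) * r * (c * g)⁻¹ * x := by group

/-- `E` is strongly closed in `S`. -/
theorem stronglyClosed_E : Cfsg.IsStronglyClosed (sylE S t) (S : Subgroup G) := by
  refine ⟨inf_le_left, fun x hx g hg => ?_⟩
  by_cases hx1 : x = 1
  · rw [hx1, mul_one, mul_inv_cancel]; exact one_mem _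
  exact h.inter_conj_mem ((h.isConj_of_mem hx hx1).trans (isConj_iff.2 ⟨g, rfl⟩)) hg

end Setup

end Cfsg.Agent.Lib.WeakClosureJ1
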