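import Cfsg.Agent.Lib.WeakClosureJ1.Fusion
import Cfsg.Agent.Lib.SporMatrix.J1
import Cfsg.Prelude.Def_Spor_J1

/-!
If `t` generates `G` as a normal subgroup, the centre of `G` is trivial.
-/

set_option autoImplicit false
set_option linter.style.haveILetI false
set_option linter.unusedSectionVars false

namespace Cfsg.Agent.Lib.WeakClosureJ1

open Subgroup Cfsg.Agent.Lib.J1Order

local notation "A5" => alternatingGroup (Fin 5)
local notation "M2" => Multiplicative (ZMod 2)

universe u

theorem sq_not_dvd : ∀ p < 420, 3 ≤ p → 175560 % (p * p) ≠ 0 := by decide +kernel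

theorem card_isoJ1 {H : Type*} [Group H] (h : Cfsg.Spor.IsoJ1 H) : Nat.card H = 175560 := by
  obtain ⟨e⟩ := h
  rw [Nat.card_congr e.toEquiv]
  exact Cfsg.Agent.Lib.SporMatrix.J1.card_J1

theorem simple_isoJ1 {H : Type*} [Group H] (h : Cfsg.Spor.IsoJ1 H) : IsSimpleGroup H := by
  obtain ⟨e⟩ := h
  haveI : IsSimpleGroup ↥Cfsg.Spor.J1 := Cfsg.Agent.Lib.SporMatrix.J1.isSimpleGroup_J1
  exact e.isSimpleGroup

/-- A perfect group has no central element in an abelian Sylow subgroup. -/
theorem eq_one_of_central {G : Type*} [Group G] [Finite G] {p : ℕ} [Fact p.Prime] (P : Sylow p G)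
    (hP : ∀ a ∈ (P : Subgroup G), ∀ b ∈ (P : Subgroup G), a * b = b * a) (hperf : commutator G = ⊤)
    {z : G} (hz : z ∈ center G) (hzP : z ∈ (P : Subgroup G)) : z = 1 := by
  haveI : IsMulCommutative (P : Subgroup G) := ⟨⟨fun a b => Subtype.ext (hP a a.2 b b.2)⟩⟩
  letI : CommGroup (P : Subgroup G) := IsMulCommutative.instCommGroup
  haveI : (P : Subgroup G).FiniteIndex := inferInstance
  let τ : G →* (P : Subgroup G) := MonoidHom.transfer (MonoidHom.id _)
  have h1 : τ z = 1 := Abelianization.commutator_subset_ker τ (hperf ▸ mem_top z)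
  have h2 : τ z = ⟨z ^ (P : Subgroup G).index, pow_mem hzP _⟩ :=
    MonoidHom.transfer_eq_pow (H := (P : Subgroup G)) (MonoidHom.id _) z fun k g₀ _ => by
      rw [mul_assoc, ← mem_center_iff.1 (pow_mem hz k) g₀, inv_mul_cancel_left]
  have h3 : z ^ (P : Subgroup G).index = 1 := congrArg Subtype.val (h2.symm.trans h1)
  obtain ⟨k, hk⟩ := P.isPGroup' ⟨z, hzP⟩
  have h4 : z ^ p ^ k = 1 := congrArg Subtype.val hk
  have hco : ((P : Subgroup G).index).Coprime (p ^ k) :=
    Nat.Coprime.pow_right _ ((Nat.Prime.coprime_iff_not_dvd Fact.out).2 P.not_dvd_index).symm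
  exact orderOf_eq_one_iff.1 (Nat.eq_one_of_dvd_coprimes hco (orderOf_dvd_of_pow_eq_one h3)
    (orderOf_dvd_of_pow_eq_one h4))

variable {G : Type u} [Group G] [Finite G] {t : G} {S : Sylow 2 G}

namespace Setup

variable (h : Setup t S)
include h

theorem t_notMem_center : t ∉ center G := by
  intro hc
  have hle : wc t ≤ zpowers t := (closure_le _).2 fun x hx => by
    obtain ⟨g, rfl⟩ := isConj_iff.1 hx.1
    rw [show g * t * g⁻¹ = t by rw [mem_center_iff.1 hc g, mul_inv_cancel_right]]
    exact mem_zpowers t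
  obtain ⟨ι, hι⟩ := h.exists_frame_t
  have := Subgroup.card_le_of_le hle
  rw [hι.card, Nat.card_zpowers, h.order] at this
  omega

theorem eq_one_of_mem_center_of_mem {z : G} (hz : z ∈ center G) (hzW : z ∈ wc t) : z = 1 := by
  obtain ⟨ι, hι⟩ := h.exists_frame_t
  obtain ⟨⟨m, v⟩, rfl⟩ : z ∈ ι.range := hι.range ▸ hzW
  have hcom : ∀ d : Model, ((m, v) : Model) * d = d * (m, v) := fun d =>
    hι.inj (by rw [map_mul, map_mul]; exact (mem_center_iff.1 hz (ι d)).symm)
  obtain rfl : v = 1 :=
    commute_g3_g5 v (congrArg Prod.snd (hcom (1, g3))) (congrArg Prod.snd (hcom (1, g5)))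
  rcases fst_cases m with rfl | rfl
  · exact map_one ι
  · exact absurd ((hι.zed : ι ((Multiplicative.ofAdd 1 : M2), (1 : A5)) = t) ▸ hz) h.t_notMem_center

theorem eq_one_of_mem_center_of_mem_E {z : G} (hz : z ∈ center G) (hzE : z ∈ sylE S t) : z = 1 :=
  h.eq_one_of_mem_center_of_mem hz hzE.2

/-- A group normally generated by `t` is perfect. -/
theorem commutator_eq_top (htop : normalClosure ({t} : Set G) = ⊤) : commutator G = ⊤ := by
  obtain ⟨ι, hι⟩ := h.exists_frame_t
  obtain ⟨a, c, hac⟩ := commutator_surj s0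
  have hs : ι (1, s0) ∈ commutator G := by
    rw [show ((1 : M2), s0) = ((1 : M2), a) * (1, c) * (1, a)⁻¹ * (1, c)⁻¹ from Prod.ext (by simp) hac,
      map_mul, map_mul, map_mul, map_inv, map_inv, ← commutatorElement_def]
    exact commutator_mem_commutator (mem_top _) (mem_top _)
  have hne : ι (1, s0) ≠ 1 := fun e0 =>
    absurd (congrArg Prod.snd (hι.inj (e0.trans (map_one ι).symm))) (by decide +kernel)
  obtain ⟨g, hg⟩ := isConj_iff.1 (h.isConj_of_mem (hι.four_mem 1 (by simp)) hne).symm
  refine eq_top_iff.2 (htop ▸ normalClosure_le_normal (Set.singleton_subset_iff.2 ?_))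
  rw [SetLike.mem_coe, ← hg]
  exact (inferInstance : (commutator G).Normal).conj_mem _ hs g

/-- The centre of a group normally generated by `t` is trivial. -/
theorem center_eq_bot (htop : normalClosure ({t} : Set G) = ⊤)
    (IH : ∀ (H : Type u) [Group H] [Finite H], Nat.card H < Nat.card G →
      ∀ s : H, Config s → Cfsg.Spor.IsoJ1 ↥(normalClosure ({s} : Set H))) :
    center G = ⊥ := by
  classical
  haveI : Fact (Nat.Prime 2) := ⟨Nat.prime_two⟩
  by_contra hne
  set Z := center G with hZ
  let π := QuotientGroup.mk' Z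
  have hker : ∀ x : G, π x = 1 ↔ x ∈ Z := fun x => QuotientGroup.eq_one_iff x
  have ht1 : π t ≠ 1 := fun e => h.t_notMem_center ((hker t).1 e)
  have hord : orderOf (π t) = 2 :=
    orderOf_eq_prime (by rw [← map_pow, ← h.order, pow_orderOf_eq_one, map_one]) ht1
  -- commuting conjugates lift to commuting conjugates
  have hlift : ∀ g : G, π (g * t * g⁻¹) * π t = π t * π (g * t * g⁻¹) →
      g * t * g⁻¹ * t = t * (g * t * g⁻¹) := by
    intro g hg
    set y := g * t * g⁻¹ with hy
    have hyt : IsConj t y := isConj_iff.2 ⟨g, rfl⟩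
    have hy2 : y * y = 1 := by
      have := pow_orderOf_eq_one y
      rwa [h.orderOf_conj hyt, pow_two] at this
    set z := y * t * y⁻¹ * t⁻¹ with hz
    have hzZ : z ∈ Z := (hker z).1 (by
      simp only [hz, map_mul, map_inv] at hg ⊢
      rw [hg]; group)
    have hzt : y * t * y⁻¹ = z * t := by rw [hz]; group
    have hzz : z * z = 1 := by
      have h2 : y * (z * t) * y⁻¹ = t := by
        rw [← hzt, show y * (y * t * y⁻¹) * y⁻¹ = (y * y) * t * (y * y)⁻¹ by group, hy2]; group
      rw [show y * (z * t) * y⁻¹ = (y * z) * (t * y⁻¹) by group, mem_center_iff.1 hzZ y,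
        show z * y * (t * y⁻¹) = z * (y * t * y⁻¹) by group, hzt, ← mul_assoc] at h2
      exact mul_right_cancel (h2.trans (one_mul t).symm)
    have hzS : z ∈ (S : Subgroup G) := by
      have hp : IsPGroup 2 (zpowers z) := by
        rcases (Nat.dvd_prime Nat.prime_two).1 (orderOf_dvd_of_pow_eq_one (pow_two z ▸ hzz)) with e | e
        · exact IsPGroup.of_card (n := 0) (by rw [Nat.card_zpowers, e, pow_zero])
        · exact IsPGroup.of_card (n := 1) (by rw [Nat.card_zpowers, e, pow_one])
      have hn : zpowers z ≤ normalizer ((S : Subgroup G) : Set G) := zpowers_le.2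
        (centralizer_le_normalizer _ (mem_centralizer_iff.2 fun x _ => mem_center_iff.1 hzZ x))
      exact S.3 (hp.to_sup_of_normal_right' S.2 hn) le_sup_right ▸ mem_sup_left (mem_zpowers z)
    have hztc : (z * t) * t = t * (z * t) := by rw [← mul_assoc t z t, mem_center_iff.1 hzZ t]
    have hztE : z * t ∈ sylE S t :=
      ⟨mul_mem hzS h.mem, mem_wc_of (isConj_iff.2 ⟨y, hzt⟩) hztc⟩
    have hz1 : z = 1 := h.eq_one_of_mem_center_of_mem_E hzZ (by
      simpa using mul_mem hztE (inv_mem h.t_mem_E))
    rw [hz1, one_mul] at hzt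
    exact mul_inv_eq_iff_eq_mul.1 hzt
  have hwc : wc (π t) = (wc t).map π := by
    rw [wc, wc, MonoidHom.map_closure]
    refine le_antisymm ((closure_le _).2 ?_) ((closure_le _).2 ?_)
    · rintro x ⟨hx, hxc⟩
      obtain ⟨c, rfl⟩ := isConj_iff.1 hx
      obtain ⟨g, rfl⟩ := QuotientGroup.mk'_surjective Z c
      have e : π g * π t * (π g)⁻¹ = π (g * t * g⁻¹) := by rw [map_mul, map_mul, map_inv]
      refine subset_closure ⟨g * t * g⁻¹, ⟨isConj_iff.2 ⟨g, rfl⟩, hlift g ?_⟩, ?_⟩
      · rw [← e]; exact hxc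
      · exact e.symm
    · rintro _ ⟨x, ⟨hx, hxc⟩, rfl⟩
      exact subset_closure ⟨π.map_isConj hx, by rw [← map_mul, hxc, map_mul]⟩
  have hinj : Function.Injective (π.comp (wc t).subtype) := by
    rw [injective_iff_map_eq_one]
    intro x hx
    exact Subtype.ext (h.eq_one_of_mem_center_of_mem ((hker _).1 hx) x.2)
  let S' : Sylow 2 (G ⧸ Z) := S.mapSurjective (QuotientGroup.mk'_surjective Z)
  have hS' : (S' : Subgroup (G ⧸ Z)) = (S : Subgroup G).map π := rfl
  have hconf : Config (π t) := by
    refine ⟨hord, ⟨S', hS' ▸ mem_map_of_mem π h.mem, ?_⟩, ?_⟩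
    · intro s hs
      rw [hS'] at hs
      obtain ⟨s, hs, rfl⟩ := hs
      rw [← map_mul, h.comm s hs, map_mul]
    · obtain ⟨e⟩ := h.iso
      have hr : (π.comp (wc t).subtype).range = wc (π t) := by
        rw [hwc, MonoidHom.range_comp, range_subtype]
      exact ⟨(((MonoidHom.ofInjective hinj).trans (MulEquiv.subgroupCongr hr)).symm).trans e⟩
  have hlt : Nat.card (G ⧸ Z) < Nat.card G := by
    rw [Subgroup.card_eq_card_quotient_mul_card_subgroup Z]
    exact lt_mul_of_one_lt_right Nat.card_pos ((Subgroup.one_lt_card_iff_ne_bot Z).2 hne)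
  have htop' : normalClosure ({π t} : Set (G ⧸ Z)) = ⊤ := by
    rw [← Set.image_singleton, ← map_normalClosure _ _ (QuotientGroup.mk'_surjective Z), htop,
      map_top_of_surjective _ (QuotientGroup.mk'_surjective Z)]
  have hQ : Nat.card (G ⧸ Z) = 175560 := by
    rw [← card_isoJ1 (IH (G ⧸ Z) hlt (π t) hconf), htop', card_top]
  have hperf := h.commutator_eq_top htop
  -- all Sylow subgroups meeting the centre are abelian
  obtain ⟨p, hp, hpZ⟩ := Nat.exists_prime_and_dvd ((Subgroup.one_lt_card_iff_ne_bot Z).2 hne).ne'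
  haveI : Fact p.Prime := ⟨hp⟩
  obtain ⟨z, hz⟩ := exists_prime_orderOf_dvd_card' p hpZ
  have hz1 : (z : G) ≠ 1 := by
    intro e
    rw [← Subgroup.orderOf_coe, e, orderOf_one] at hz
    exact hp.ne_one hz.symm
  have hzp : IsPGroup p (zpowers (z : G)) :=
    IsPGroup.of_card (n := 1) (by rw [Nat.card_zpowers, Subgroup.orderOf_coe, hz, pow_one])
  by_cases hp2 : p = 2
  · subst hp2
    have hE8 : Nat.card ((sylE S t).map π) = 8 := by
      have hi : Function.Injective (π.comp (sylE S t).subtype) := by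
        rw [injective_iff_map_eq_one]
        intro x hx
        exact Subtype.ext (h.eq_one_of_mem_center_of_mem_E ((hker _).1 hx) x.2)
      have hr : (π.comp (sylE S t).subtype).range = (sylE S t).map π := by
        rw [MonoidHom.range_comp, range_subtype]
      rw [← hr, ← Nat.card_congr (MonoidHom.ofInjective hi).toEquiv, h.card_sylE]
    have hSE : ((S : Subgroup G).map π) = (sylE S t).map π := by
      refine (eq_of_le_of_card_ge (map_mono inf_le_left) ?_).symm
      obtain ⟨k, hk⟩ := IsPGroup.iff_card.1 (S.isPGroup'.map π)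
      have hd := ((S : Subgroup G).map π).card_subgroup_dvd_card
      rw [hk, hQ] at hd
      show Nat.card ((S : Subgroup G).map π) ≤ Nat.card ((sylE S t).map π)
      rw [hE8, hk]
      have : k < 4 := by
        by_contra hk4
        have := (pow_dvd_pow 2 (not_lt.1 hk4)).trans hd
        norm_num at this
      calc 2 ^ k ≤ 2 ^ 3 := Nat.pow_le_pow_right (by norm_num) (by omega)
        _ = 8 := by norm_num
    obtain ⟨ι, hι⟩ := h.exists_frame_t
    have hab : ∀ a ∈ (S : Subgroup G), ∀ b ∈ (S : Subgroup G), a * b = b * a := by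
      intro a ha b hb
      obtain ⟨e, he, hae⟩ : π a ∈ (sylE S t).map π := hSE ▸ mem_map_of_mem π ha
      obtain ⟨c, hc, rfl⟩ : ∃ c ∈ Z, a = e * c := ⟨e⁻¹ * a, (hker _).1 (by rw [map_mul, map_inv, hae]; group),
        by group⟩
      have h1 : e * b = b * e := (h.le_centralizer_E hb e he)
      rw [mul_assoc, ← mem_center_iff.1 hc b, ← mul_assoc, h1, mul_assoc]
    have hzS : (z : G) ∈ (S : Subgroup G) := by
      have hn : zpowers (z : G) ≤ normalizer ((S : Subgroup G) : Set G) := zpowers_le.2
        (centralizer_le_normalizer _ (mem_centralizer_iff.2 fun x _ => mem_center_iff.1 z.2 x))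
      exact S.3 (hzp.to_sup_of_normal_right' S.2 hn) le_sup_right ▸ mem_sup_left (mem_zpowers _)
    exact hz1 (eq_one_of_central S hab hperf z.2 hzS)
  · obtain ⟨P, hP⟩ := hzp.exists_le_sylow
    have hcyc : IsCyclic ((P : Subgroup G).map π) := by
      obtain ⟨k, hk⟩ := IsPGroup.iff_card.1 (P.isPGroup'.map π)
      have hd := ((P : Subgroup G).map π).card_subgroup_dvd_card
      rw [hk, hQ] at hd
      have hk2 : k < 2 := by
        by_contra hk2
        have h2 := (pow_dvd_pow p (not_lt.1 hk2)).trans hd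
        rw [pow_two] at h2
        have hle := Nat.le_of_dvd (by norm_num) h2
        have hp420 : p < 420 := by
          by_contra hp420
          have := Nat.mul_le_mul (not_lt.1 hp420) (not_lt.1 hp420)
          omega
        exact sq_not_dvd p hp420 (by have := hp.two_le; omega) (Nat.mod_eq_zero_of_dvd h2)
      interval_cases k
      · haveI : Subsingleton ((P : Subgroup G).map π) :=
          (Nat.card_eq_one_iff_unique.1 (by rw [hk, pow_zero])).1
        exact isCyclic_of_subsingleton
      · exact isCyclic_of_prime_card (p := p) (by rw [hk, pow_one])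
    have hab : ∀ a ∈ (P : Subgroup G), ∀ b ∈ (P : Subgroup G), a * b = b * a := by
      intro a ha b hb
      let f : (P : Subgroup G) →* (P : Subgroup G).map π := π.subgroupMap (P : Subgroup G)
      have hf : f.ker ≤ center (P : Subgroup G) := fun x hx => mem_center_iff.2 fun y =>
        Subtype.ext (mem_center_iff.1 ((hker (x : G)).1 (congrArg Subtype.val hx)) (y : G))
      exact congrArg Subtype.val (commutative_of_cyclic_center_quotient f hf ⟨a, ha⟩ ⟨b, hb⟩)
    exact hz1 (eq_one_of_central P hab hperf z.2 (hP (mem_zpowers _)))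

end Setup

end Cfsg.Agent.Lib.WeakClosureJ1
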