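import Cfsg.Agent.Lib.WeakClosureJ1.Fusion
import Cfsg.Agent.Lib.ProductFusion.Main
import Cfsg.Agent.Lib.Coprime.Generation
import Cfsg.Agent.Lib.PSolvable.Basic

/-!
A group normally generated by `t` with trivial centre is simple, its Sylow 2-subgroup is `E` and the
centraliser of the join has odd order.
-/

set_option autoImplicit false
set_option linter.style.haveILetI false
set_option linter.unusedSectionVars false

namespace Cfsg.Agent.Lib.WeakClosureJ1

open Subgroup Cfsg.Agent.Lib.J1Order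

local notation "A5" => alternatingGroup (Fin 5)
local notation "M2" => Multiplicative (ZMod 2)

theorem odd_normal_model (R : Subgroup Model) (hn : R.Normal) (hodd : Odd (Nat.card R)) : R = ⊥ := by
  haveI : IsSimpleGroup A5 := alternatingGroup.isSimpleGroup_five
  set N := R.map (MonoidHom.snd M2 A5) with hN
  have hNn : N.Normal := hn.map _ Prod.snd_surjective
  have hN1 : N = ⊥ := by
    rcases hNn.eq_bot_or_eq_top with e | e
    · exact e
    · have h1 : Odd (Nat.card N) := hodd.of_dvd_nat (Subgroup.card_map_dvd (H := R) _)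
      rw [e, card_top, Nat.card_eq_fintype_card] at h1
      exact absurd h1 (by decide +kernel)
  refine eq_bot_iff.2 fun d hd => ?_
  have h2 : d.2 = 1 := by
    have : d.2 ∈ N := ⟨d, hd, rfl⟩
    rwa [hN1, mem_bot] at this
  have h1 : d ^ Nat.card R = 1 := congrArg Subtype.val (pow_card_eq_one' (x := (⟨d, hd⟩ : R)))
  obtain ⟨j, hj⟩ := hodd
  have key : ∀ m : M2, m * m = 1 := by decide +kernel
  have h3 := congrArg Prod.fst h1
  rw [Prod.pow_fst, hj, pow_succ, pow_mul, pow_two, key, one_pow, one_mul] at h3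
  exact mem_bot.2 (Prod.ext h3 h2)

universe u

variable {G : Type u} [Group G] [Finite G] {t : G} {S : Sylow 2 G}

namespace Setup

variable (h : Setup t S) (htop : normalClosure ({t} : Set G) = ⊤) (hZ : center G = ⊥)
include h htop hZ

omit hZ in
theorem normal_eq_top {N : Subgroup G} (hN : N.Normal) (ht : t ∈ N) : N = ⊤ :=
  eq_top_iff.2 (htop ▸ normalClosure_le_normal (Set.singleton_subset_iff.2 ht))

/-- There is no non-trivial normal subgroup of odd order. -/
theorem pPrimeCore_eq_bot : Cfsg.pPrimeCore 2 G = ⊥ := by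
  set O := Cfsg.pPrimeCore 2 G with hO
  have hodd : Odd (Nat.card O) := Nat.coprime_two_right.1 (PSolvable.card_pPrimeCore_coprime (p := 2))
  haveI hOn : O.Normal := PSolvable.pPrimeCore_normal'
  obtain ⟨κ, hκ⟩ := h.exists_frame_t
  set E := sylE S t with hE
  haveI : IsMulCommutative E := ⟨⟨fun a b => Subtype.ext (hκ.E_comm a a.2 b b.2)⟩⟩
  have hnc : ¬ IsCyclic E := fun hc => by
    have h1 := IsCyclic.exponent_eq_card (α := E)
    have h2 : Monoid.exponent E ∣ 2 := Monoid.exponent_dvd_of_forall_pow_eq_one fun x => by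
      rw [pow_two]; exact Subtype.ext (hκ.E_sq x x.2)
    rw [h1, h.card_sylE] at h2
    norm_num at h2
  have hnorm : E ≤ normalizer (O : Set G) := by rw [normalizer_eq_top_iff.2 hOn]; exact le_top
  have hcop : (Nat.card E).Coprime (Nat.card O) := by
    rw [h.card_sylE, show (8 : ℕ) = 2 ^ 3 by norm_num]
    exact (hodd.coprime_two_right.symm).pow_left 3
  -- the fixed points of an element of `E#` centralise its weak closure
  have hfix : ∀ a ∈ E, a ≠ 1 → ∀ x ∈ O, x * a = a * x → x ∈ centralizer (wc a : Set G) := by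
    intro a ha ha1 x hx hxa w hw
    obtain ⟨ι, hι⟩ := h.exists_frame ha ha1
    haveI := hOn.comap ι
    have hR : O.comap ι = ⊥ := by
      refine odd_normal_model _ inferInstance (hodd.of_dvd_nat ?_)
      rw [← card_map_of_injective hι.inj]
      exact card_dvd_of_le (map_comap_le _ _)
    have hc1 : x * w * x⁻¹ * w⁻¹ ∈ wc a := mul_mem (conj_mem_wc_self hxa hw) (inv_mem hw)
    have hc2 : x * w * x⁻¹ * w⁻¹ ∈ O := by
      rw [show x * w * x⁻¹ * w⁻¹ = x * (w * x⁻¹ * w⁻¹) by group]
      exact mul_mem hx (hOn.conj_mem _ (inv_mem hx) w)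
    obtain ⟨d, hd⟩ : x * w * x⁻¹ * w⁻¹ ∈ ι.range := hι.range ▸ hc1
    have hd' : d ∈ O.comap ι := by rw [mem_comap, hd]; exact hc2
    rw [hR, mem_bot] at hd'
    rw [hd', map_one] at hd
    exact (mul_inv_eq_iff_eq_mul.1 (mul_inv_eq_one.1 hd.symm)).symm
  have hle : O ≤ centralizer (E : Set G) := by
    rw [← Cfsg.Agent.Lib.Coprime.iSup_centralizer_eq hnc hnorm hcop]
    refine iSup₂_le fun a ha x hx => ?_
    obtain ⟨ι, hι⟩ := h.exists_frame ha.1 ha.2
    exact centralizer_le hι.E_le (hfix a ha.1 ha.2 x hx.1 (mem_centralizer_singleton_iff.1 hx.2))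
  have hC : centralizer (O : Set G) = ⊤ := by
    refine eq_top_iff.2 (htop ▸ (closure_le _).2 ?_)
    intro y hy
    obtain ⟨a, ha, hay⟩ := Group.mem_conjugatesOfSet_iff.1 hy
    rw [Set.mem_singleton_iff] at ha
    rw [ha] at hay
    obtain ⟨g, rfl⟩ := isConj_iff.1 hay
    intro x hx
    have h1 : (g⁻¹ * x * g) * t = t * (g⁻¹ * x * g) :=
      h.centralizer_E_le_t (hle (by simpa using hOn.conj_mem x hx g⁻¹))
    calc x * (g * t * g⁻¹) = g * ((g⁻¹ * x * g) * t) * g⁻¹ := by group
      _ = g * (t * (g⁻¹ * x * g)) * g⁻¹ := by rw [h1]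
      _ = g * t * g⁻¹ * x := by group
  exact eq_bot_iff.2 (hZ ▸ fun x hx => mem_center_iff.2 fun y =>
    ((hC.ge (mem_top y) : y ∈ centralizer (O : Set G)) x hx).symm)

/-- The Sylow 2-subgroup meets the centraliser of the join trivially. -/
theorem inf_cent_eq_bot : (S : Subgroup G) ⊓ centralizer (joinWc S t : Set G) = ⊥ := by
  set S₂ := (S : Subgroup G) ⊓ centralizer (joinWc S t : Set G) with hS₂
  have hset : ProductFusion.Setup S (sylE S t) S₂ := by
    refine ⟨h.stronglyClosed_E, h.stronglyClosed_cent, fun a ha b hb =>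
      h.le_centralizer_E hb.1 a ha, eq_bot_iff.2 ?_⟩
    rintro e ⟨he, he2⟩
    exact mem_bot.2 (h.eq_one_of_forall he fun u hu hu1 => centralizer_le (wc_le_joinWc hu hu1) he2.2)
  have h1 := ProductFusion.commutator_normalClosure_eq_bot (h.pPrimeCore_eq_bot htop hZ) hset
  rw [h.normal_eq_top htop normalClosure_normal (subset_normalClosure h.t_mem_E),
    commutator_eq_bot_iff_le_centralizer] at h1
  refine eq_bot_iff.2 fun x hx => ?_
  rw [← hZ, mem_center_iff]
  exact fun y => (h1 (mem_top y) x (subset_normalClosure hx)).symm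

/-- The Sylow 2-subgroup is `E`. -/
theorem sylow_eq : (S : Subgroup G) = sylE S t := by
  refine le_antisymm (fun s hs => ?_) inf_le_left
  obtain ⟨e, he, hes⟩ := h.exists_decomp (h.le_centralizer_E hs)
  have h1 : e * s ∈ (⊥ : Subgroup G) := h.inf_cent_eq_bot htop hZ ▸ ⟨mul_mem he.1 hs, hes⟩
  rw [mem_bot, mul_eq_one_iff_eq_inv'] at h1
  exact h1 ▸ inv_mem he

theorem card_sylow : Nat.card (S : Subgroup G) = 8 := by rw [h.sylow_eq htop hZ, h.card_sylE]

theorem sylow_comm : ∀ a ∈ (S : Subgroup G), ∀ b ∈ (S : Subgroup G), a * b = b * a := by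
  obtain ⟨κ, hκ⟩ := h.exists_frame_t
  rw [h.sylow_eq htop hZ]
  exact hκ.E_comm

/-- Every involution is conjugate to `t`. -/
theorem isConj_involution {x : G} (hx : orderOf x = 2) : IsConj t x := by
  haveI : Fact (Nat.Prime 2) := ⟨Nat.prime_two⟩
  obtain ⟨Q, hQ⟩ := (IsPGroup.of_card (n := 1) (by rw [Nat.card_zpowers, hx, pow_one]) :
    IsPGroup 2 (zpowers x)).exists_le_sylow
  obtain ⟨g, hg⟩ := MulAction.exists_smul_eq G Q S
  have hm : g * x * g⁻¹ ∈ sylE S t := by
    rw [← h.sylow_eq htop hZ, ← hg, Sylow.coe_subgroup_smul]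
    exact ⟨x, hQ (mem_zpowers x), rfl⟩
  have hne : g * x * g⁻¹ ≠ 1 := fun e => by
    rw [conj_eq_one_iff] at e
    rw [e, orderOf_one] at hx
    norm_num at hx
  exact (h.isConj_of_mem hm hne).trans (isConj_iff.2 ⟨g⁻¹, by group⟩)

/-- The group is simple. -/
theorem isSimpleGroup : IsSimpleGroup G := by
  haveI : Nontrivial G := ⟨⟨t, 1, h.t_ne_one⟩⟩
  haveI : Fact (Nat.Prime 2) := ⟨Nat.prime_two⟩
  refine ⟨fun N hN => ?_⟩
  by_cases h2 : 2 ∣ Nat.card N
  · obtain ⟨x, hx⟩ := exists_prime_orderOf_dvd_card' 2 h2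
    rw [← Subgroup.orderOf_coe] at hx
    obtain ⟨g, hg⟩ := isConj_iff.1 (h.isConj_involution htop hZ hx).symm
    exact Or.inr (h.normal_eq_top htop hN (hg ▸ hN.conj_mem _ x.2 g))
  · exact Or.inl (eq_bot_iff.2 (h.pPrimeCore_eq_bot htop hZ ▸
      PSolvable.le_pPrimeCore hN ((Nat.Prime.coprime_iff_not_dvd Nat.prime_two).2 h2).symm))

/-- The centraliser of the join has odd order. -/
theorem odd_cent : Odd (Nat.card (centralizer (joinWc S t : Set G))) := by
  haveI : Fact (Nat.Prime 2) := ⟨Nat.prime_two⟩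
  rw [Nat.odd_iff, ← Nat.two_dvd_ne_zero]
  intro h2
  obtain ⟨x, hx⟩ := exists_prime_orderOf_dvd_card' 2 h2
  rw [← Subgroup.orderOf_coe] at hx
  have hxE : (x : G) ∈ centralizer (sylE S t : Set G) := h.centralizer_join_le x.2
  have hp : IsPGroup 2 (zpowers (x : G)) := IsPGroup.of_card (n := 1) (by rw [Nat.card_zpowers, hx, pow_one])
  have hE2 : IsPGroup 2 (sylE S t) := IsPGroup.of_card (n := 3) (by rw [h.card_sylE]; norm_num)
  obtain ⟨Q, hQ⟩ := (hp.to_sup_of_normal_right' hE2
    (zpowers_le.2 (centralizer_le_normalizer _ hxE))).exists_le_sylow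
  have heq : sylE S t = (Q : Subgroup G) := eq_of_le_of_card_ge (le_sup_right.trans hQ) (by
    rw [Sylow.card_eq_multiplicity, ← Sylow.card_eq_multiplicity S, h.card_sylow htop hZ, h.card_sylE])
  have hxm : (x : G) ∈ sylE S t := heq ▸ hQ (mem_sup_left (mem_zpowers _))
  have h1 := h.eq_one_of_forall hxm fun u hu hu1 => centralizer_le (wc_le_joinWc hu hu1) x.2
  rw [h1, orderOf_one] at hx
  norm_num at hx

end Setup

end Cfsg.Agent.Lib.WeakClosureJ1
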