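import Cfsg.Agent.Lib.WeakClosureJ1.Cent

/-!
Fusion inside the join of the weak closures and inheritance of the hypotheses by subgroups.
-/

set_option autoImplicit false
set_option linter.style.haveILetI false
set_option linter.unusedSectionVars false

namespace Cfsg.Agent.Lib.WeakClosureJ1

open Subgroup Cfsg.Agent.Lib.J1Order

local notation "A5" => alternatingGroup (Fin 5)
local notation "M2" => Multiplicative (ZMod 2)

theorem involution_into_four : ∀ d : Model, d * d = 1 → ∃ b : A5,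
    b * d.2 * b⁻¹ = 1 ∨ b * d.2 * b⁻¹ = s0 ∨ b * d.2 * b⁻¹ = s1 ∨ b * d.2 * b⁻¹ = s0 * s1 := by
  decide +kernel

theorem g3_pow : g3 ^ 3 = 1 := by decide +kernel

variable {G : Type*} [Group G] [Finite G]

namespace Setup

variable {t : G} {S : Sylow 2 G} (h : Setup t S)
include h

/-- `turns` moves `t` onto every element of `E#`. -/
theorem exists_turns_conj {u : G} (hu : u ∈ sylE S t) (hu1 : u ≠ 1) :
    ∃ n ∈ turns S t, n * t * n⁻¹ = u := by
  classical
  by_contra hno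
  push Not at hno
  set O := {x : G | ∃ n ∈ turns S t, n * t * n⁻¹ = x} with hOd
  have hOE : ∀ x ∈ O, x ∈ sylE S t ∧ x ≠ 1 := by
    rintro x ⟨n, hn, rfl⟩
    exact ⟨(mem_normalizer_iff.1 (h.turns_spec hn).1 t).1 h.t_mem_E,
      fun e => h.t_ne_one (conj_eq_one_iff.1 e)⟩
  have key : ∀ w ∈ sylE S t, w ≠ 1 →
      Nat.card O % 3 = if w ∈ O then 1 else 0 := by
    intro w hw hw1
    obtain ⟨ι, hι⟩ := h.exists_frame hw hw1
    have ha : ι (1, g3) ∈ turns S t := subset_closure ⟨w, hw, hw1, ι, hι, rfl⟩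
    let a : G := ι (1, g3)
    have ha3 : a ^ 3 = 1 := by
      show ι (1, g3) ^ 3 = 1
      rw [← map_pow, show ((1 : M2), g3) ^ 3 = 1 from Prod.ext (by simp) (by simpa using g3_pow), map_one]
    have hmaps : ∀ x ∈ O, a * x * a⁻¹ ∈ O := by
      rintro x ⟨n, hn, rfl⟩
      exact ⟨a * n, mul_mem ha hn, by group⟩
    let f : Function.End O := fun x => ⟨a * x.1 * a⁻¹, hmaps _ x.2⟩
    have hf : f ^ 3 ^ 1 = 1 := by
      refine funext fun x => Subtype.ext ?_
      show a * (a * (a * x.1 * a⁻¹) * a⁻¹) * a⁻¹ = x.1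
      calc a * (a * (a * x.1 * a⁻¹) * a⁻¹) * a⁻¹ = (a * a * a) * x.1 * (a * a * a)⁻¹ := by group
        _ = a ^ 3 * x.1 * (a ^ 3)⁻¹ := by rw [pow_succ, pow_two]
        _ = x.1 := by rw [ha3]; group
    haveI : Fact (Nat.Prime 3) := ⟨Nat.prime_three⟩
    letI : Fintype O := Fintype.ofFinite _
    have hmod := Equiv.Perm.card_fixedPoints_modEq (p := 3) (n := 1) hf
    have hfix : ∀ x : O, Function.IsFixedPt f x → x.1 = w := by
      intro x hx
      have hx' : a * x.1 * a⁻¹ = x.1 := congrArg Subtype.val hx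
      obtain ⟨⟨m, v⟩, hd, hdx⟩ := hι.mem_E.1 (hOE _ x.2).1
      rw [← hdx, show a = ι (1, g3) from rfl, ← map_inv, ← map_mul, ← map_mul] at hx'
      obtain rfl : v = 1 := g3_fix v (mem_P8.1 hd) (congrArg Prod.snd (hι.inj hx'))
      rcases fst_cases m with rfl | rfl
      · exact absurd (hdx.symm.trans (map_one ι)) (hOE _ x.2).2
      · exact hdx.symm.trans hι.zed
    rw [← Nat.card_eq_fintype_card] at hmod
    by_cases hwO : w ∈ O
    · have hwfix : Function.IsFixedPt f ⟨w, hwO⟩ := Subtype.ext (by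
        show a * w * a⁻¹ = w
        rw [show a * w = w * a from hι.comm _, mul_inv_cancel_right])
      haveI : Unique (Function.fixedPoints f) :=
        ⟨⟨⟨_, hwfix⟩⟩, fun y => Subtype.ext (Subtype.ext (hfix y.1 y.2))⟩
      rw [Fintype.card_unique] at hmod
      rw [if_pos hwO]
      exact hmod
    · haveI : IsEmpty (Function.fixedPoints f) := ⟨fun y => hwO (hfix y.1 y.2 ▸ y.1.2)⟩
      rw [Fintype.card_eq_zero] at hmod
      rw [if_neg hwO]
      exact hmod
  have h1 := key t h.t_mem_E h.t_ne_one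
  have h2 := key u hu hu1
  rw [if_pos ⟨1, one_mem _, by simp⟩] at h1
  rw [if_neg fun ⟨n, hn, e⟩ => hno n hn e, h1] at h2
  exact one_ne_zero h2

/-- The involutions of the weak closure are conjugate to `t` inside the join. -/
theorem exists_conj_joinWc {x : G} (hx : x ∈ wc t) (hx2 : orderOf x = 2) :
    ∃ k ∈ joinWc S t, k * t * k⁻¹ = x := by
  obtain ⟨ι, hι⟩ := h.exists_frame_t
  obtain ⟨d, rfl⟩ : x ∈ ι.range := hι.range ▸ hx
  obtain ⟨b, hb⟩ := involution_into_four d (hι.inj (by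
    have e := pow_orderOf_eq_one (ι d)
    rw [hx2, pow_two] at e
    rw [map_mul, map_one, e]))
  have he : ι ((1, b) * d * (1, b)⁻¹) ∈ sylE S t := hι.apply_mem (mem_P8.2 hb)
  have hne : ι ((1, b) * d * (1, b)⁻¹) ≠ 1 := by
    rw [map_mul, map_mul, map_inv, Ne, conj_eq_one_iff]
    intro e
    rw [e, orderOf_one] at hx2
    norm_num at hx2
  obtain ⟨n, hn, hnt⟩ := h.exists_turns_conj he hne
  refine ⟨(ι (1, b))⁻¹ * n, mul_mem (inv_mem (h.wc_t_le_joinWc (hι.mem _))) (h.turns_le_joinWc hn), ?_⟩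
  rw [show (ι (1, b))⁻¹ * n * t * ((ι (1, b))⁻¹ * n)⁻¹ = (ι (1, b))⁻¹ * (n * t * n⁻¹) * ι (1, b) by group,
    hnt, map_mul, map_mul, map_inv]
  group

/-- Commuting conjugates of `t` are conjugate inside the join. -/
theorem exists_conj_of_commute {x : G} (hc : IsConj t x) (hx : x * t = t * x) :
    ∃ k ∈ joinWc S t, k * t * k⁻¹ = x := by
  refine h.exists_conj_joinWc (mem_wc_of hc hx) ?_
  rw [h.orderOf_conj hc]

theorem t_mem_joinWc : t ∈ joinWc S t := h.wc_t_le_joinWc (self_mem_wc t)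

/-- The join is generated by conjugates of `t` under itself. -/
theorem joinWc_le_closure :
    joinWc S t ≤ closure {x : G | ∃ k ∈ joinWc S t, k * t * k⁻¹ = x} := by
  refine (closure_le _).2 ?_
  rintro x ⟨u, hu, hu1, hx⟩
  obtain ⟨n, hn, hnt⟩ := h.exists_turns_conj hu hu1
  revert hx
  refine fun hx => (closure_le _).2 ?_ hx
  rintro y ⟨hy, hyc⟩
  refine subset_closure ?_
  have h1 : (n⁻¹ * y * n) * t = t * (n⁻¹ * y * n) := by
    calc (n⁻¹ * y * n) * t = n⁻¹ * (y * (n * t * n⁻¹)) * n := by group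
      _ = n⁻¹ * ((n * t * n⁻¹) * y) * n := by rw [hnt, hyc]
      _ = t * (n⁻¹ * y * n) := by group
  have h2 : IsConj t (n⁻¹ * y * n) :=
    ((h.isConj_of_mem hu hu1).trans hy).trans (isConj_iff.2 ⟨n⁻¹, by group⟩)
  obtain ⟨k, hk, hkt⟩ := h.exists_conj_of_commute h2 h1
  refine ⟨n * k, mul_mem (h.turns_le_joinWc hn) hk, ?_⟩
  rw [show n * k * t * (n * k)⁻¹ = n * (k * t * k⁻¹) * n⁻¹ by group, hkt]
  group

/-- The join lies in every normal subgroup containing `t`. -/
theorem joinWc_le_of_normal {K : Subgroup G} [K.Normal] (ht : t ∈ K) : joinWc S t ≤ K := by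
  refine h.joinWc_le_closure.trans ((closure_le _).2 ?_)
  rintro _ ⟨k, -, rfl⟩
  exact ‹K.Normal›.conj_mem t ht k

/-- The hypotheses pass to a subgroup containing the join and a suitable Sylow subgroup. -/
theorem config_subgroup {K : Subgroup G} (hK : joinWc S t ≤ K) (T : Sylow 2 K)
    (hT : (⟨t, hK h.t_mem_joinWc⟩ : K) ∈ (T : Subgroup K))
    (hTc : ∀ s ∈ (T : Subgroup K), (s : G) * t = t * s) :
    Config (⟨t, hK h.t_mem_joinWc⟩ : K) := by
  refine ⟨by rw [Subgroup.orderOf_mk]; exact h.order, ⟨T, hT, fun s hs => Subtype.ext (hTc s hs)⟩, ?_⟩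
  have hmap : (wc (⟨t, hK h.t_mem_joinWc⟩ : K)).map K.subtype = wc t := by
    rw [wc, MonoidHom.map_closure]
    refine le_antisymm ((closure_le _).2 ?_) ((closure_le _).2 ?_)
    · rintro _ ⟨x, ⟨hx, hxc⟩, rfl⟩
      exact mem_wc_of (K.subtype.map_isConj hx) (congrArg Subtype.val hxc)
    · rintro x ⟨hx, hxc⟩
      obtain ⟨k, hk, rfl⟩ := h.exists_conj_of_commute hx hxc
      refine subset_closure ⟨⟨k, hK hk⟩ * ⟨t, hK h.t_mem_joinWc⟩ * ⟨k, hK hk⟩⁻¹,
        ⟨isConj_iff.2 ⟨⟨k, hK hk⟩, rfl⟩, Subtype.ext ?_⟩, rfl⟩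
      exact hxc
  obtain ⟨e⟩ := h.iso
  exact ⟨((wc (⟨t, hK h.t_mem_joinWc⟩ : K)).equivMapOfInjective K.subtype K.subtype_injective).trans
    ((MulEquiv.subgroupCongr hmap).trans e)⟩

end Setup

theorem Config.exists_setup {t : G} (h : Config t) : ∃ S : Sylow 2 G, Setup t S := by
  obtain ⟨S, hS, hc⟩ := h.central
  exact ⟨S, h, hS, hc⟩

end Cfsg.Agent.Lib.WeakClosureJ1
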