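import Cfsg.Agent.Lib.WeakClosureJ1.Model
import Cfsg.Prelude.Def_TwoFusion

/-!
The Sylow 2-subgroup when the weak closure of `t` is `2 × A₅`: the elementary group `E` of order 8 is central
in it and the centraliser of `E` is `E` times the centraliser of the group generated by the weak closures.
-/

set_option autoImplicit false
set_option linter.style.haveILetI false
set_option linter.unusedSectionVars false

namespace Cfsg.Agent.Lib.WeakClosureJ1

open Subgroup Cfsg.Agent.Lib.J1Order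

local notation "A5" => alternatingGroup (Fin 5)
local notation "M2" => Multiplicative (ZMod 2)

variable {G : Type*} [Group G]

theorem fst_other : ∀ a b : M2, b = a ∨ b = a * Multiplicative.ofAdd 1 := by decide +kernel

/-- The part of the Sylow subgroup in the weak closure. -/
def sylE (S : Sylow 2 G) (t : G) : Subgroup G := (S : Subgroup G) ⊓ wc t

/-- A standard embedding at `u` carrying the standard Sylow subgroup onto `E`. -/
structure Frame (E : Subgroup G) (u : G) (ι : Model →* G) : Prop extends Emb u ι where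
  map_eq : P8.map ι = E

namespace Frame

variable {E : Subgroup G} {u : G} {ι : Model →* G} (hι : Frame E u ι)
include hι

theorem mem_E {x : G} : x ∈ E ↔ ∃ d ∈ P8, ι d = x := by rw [← hι.map_eq]; exact Iff.rfl

theorem apply_mem {d : Model} (hd : d ∈ P8) : ι d ∈ E := (hι.mem_E).2 ⟨d, hd, rfl⟩

theorem four_mem (m : M2) {v : A5} (hv : v = 1 ∨ v = s0 ∨ v = s1 ∨ v = s0 * s1) : ι (m, v) ∈ E :=
  hι.apply_mem (mem_P8.2 hv)

theorem E_comm : ∀ x ∈ E, ∀ y ∈ E, x * y = y * x := by
  intro x hx y hy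
  obtain ⟨⟨m, v⟩, hd, rfl⟩ := hι.mem_E.1 hx
  obtain ⟨⟨n, w⟩, hd', rfl⟩ := hι.mem_E.1 hy
  rw [← map_mul, ← map_mul]
  refine congrArg ι (Prod.ext (mul_comm m n) ?_)
  exact mul_inv_eq_iff_eq_mul.1 (four_comm v w (mem_P8.1 hd) (mem_P8.1 hd'))

theorem E_sq : ∀ x ∈ E, x * x = 1 := by
  intro x hx
  obtain ⟨d, hd, rfl⟩ := hι.mem_E.1 hx
  have key : ∀ d : Model, (d.2 = 1 ∨ d.2 = s0 ∨ d.2 = s1 ∨ d.2 = s0 * s1) → d * d = 1 := by
    decide +kernel
  rw [← map_mul, key d (mem_P8.1 hd), map_one]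

theorem card_E : Nat.card E = 8 := by rw [← hι.map_eq, card_map_of_injective hι.inj, card_P8]

theorem E_le : E ≤ wc u := fun x hx => by
  obtain ⟨d, -, rfl⟩ := hι.mem_E.1 hx
  exact hι.mem d

/-- Conjugation by an element commuting with `u` respects the factor `A₅`. -/
theorem conj_inr {g : G} (hg : g * u = u * g) (b : A5) :
    ∃ b' : A5, g * ι (1, b) * g⁻¹ = ι (1, b') := by
  obtain ⟨a, c, rfl⟩ := commutator_surj b
  obtain ⟨d, hd⟩ : g * ι (1, a) * g⁻¹ ∈ ι.range := hι.range ▸ conj_mem_wc_self hg (hι.mem _)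
  obtain ⟨e, he⟩ : g * ι (1, c) * g⁻¹ ∈ ι.range := hι.range ▸ conj_mem_wc_self hg (hι.mem _)
  refine ⟨(d * e * d⁻¹ * e⁻¹).2, ?_⟩
  have h1 : ((1 : M2), (d * e * d⁻¹ * e⁻¹).2) = d * e * d⁻¹ * e⁻¹ :=
    Prod.ext (by simp) rfl
  rw [h1, map_mul, map_mul, map_mul, map_inv, map_inv, hd, he,
    show ((1 : M2), a * c * a⁻¹ * c⁻¹) = ((1 : M2), a) * (1, c) * (1, a)⁻¹ * (1, c)⁻¹ from
      Prod.ext (by simp) rfl, map_mul, map_mul, map_mul, map_inv, map_inv]
  group

/-- An element commuting with `u` and the image of `A₅` centralises the weak closure. -/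
theorem mem_centralizer_wc {g : G} (hg : g * u = u * g) (h : ∀ b : A5, g * ι (1, b) = ι (1, b) * g) :
    g ∈ centralizer (wc u : Set G) := by
  intro x hx
  obtain ⟨⟨m, b⟩, rfl⟩ : x ∈ ι.range := hι.range ▸ hx
  rcases fst_cases m with rfl | rfl
  · exact (h b).symm
  · rw [show ((Multiplicative.ofAdd 1 : M2), b) = J1Order.zed * (1, b) from Prod.ext (by simp [J1Order.zed])
      (by simp [J1Order.zed]), map_mul, hι.zed, mul_assoc, ← h b, ← mul_assoc, ← hg, mul_assoc]

/-- An element centralising `E` is an element of the four-group times one centralising `wc u`. -/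
theorem decomp {g : G} (hg : g ∈ centralizer (E : Set G)) :
    ∃ v : A5, (v = 1 ∨ v = s0 ∨ v = s1 ∨ v = s0 * s1) ∧
      (ι (1, v))⁻¹ * g ∈ centralizer (wc u : Set G) := by
  have hgu : g * u = u * g :=
    (hg u (by rw [← hι.zed]; exact hι.apply_mem (mem_P8.2 (Or.inl rfl)))).symm
  choose φ hφ using hι.conj_inr hgu
  let Φ : A5 →* A5 := MonoidHom.mk' φ (fun a b => by
    have h := hφ (a * b)
    rw [show ((1 : M2), a * b) = ((1 : M2), a) * (1, b) from Prod.ext (one_mul 1).symm rfl, map_mul,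
      show g * (ι (1, a) * ι (1, b)) * g⁻¹ = (g * ι (1, a) * g⁻¹) * (g * ι (1, b) * g⁻¹) by group,
      hφ, hφ, ← map_mul] at h
    exact (congrArg Prod.snd (hι.inj h)).symm)
  have hfix : ∀ v, (v = 1 ∨ v = s0 ∨ v = s1 ∨ v = s0 * s1) → Φ v = v := fun v hv => by
    have h := hφ v
    rw [mul_inv_eq_iff_eq_mul.2 (hg _ (hι.four_mem 1 hv)).symm] at h
    exact (congrArg Prod.snd (hι.inj h)).symm
  have hinj : Function.Injective Φ := fun a b h => by
    have h1 : g * ι (1, a) * g⁻¹ = g * ι (1, b) * g⁻¹ := by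
      rw [hφ, hφ]; exact congrArg (fun z => ι (1, z)) h
    exact congrArg Prod.snd (hι.inj (mul_left_cancel (mul_right_cancel h1)))
  obtain ⟨v, hv, hvb⟩ := aut_lemma Φ hinj (hfix s0 (by simp)) (hfix s1 (by simp))
  refine ⟨v, hv, hι.mem_centralizer_wc ?_ fun b => ?_⟩
  · calc (ι (1, v))⁻¹ * g * u = (ι (1, v))⁻¹ * (u * ι (1, v)) * ((ι (1, v))⁻¹ * g) := by
          rw [mul_assoc, hgu]; group
      _ = u * ((ι (1, v))⁻¹ * g) := by rw [← hι.comm]; group
  · have h1 : g * ι (1, b) * g⁻¹ = ι (1, v) * ι (1, b) * (ι (1, v))⁻¹ := by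
      rw [hφ b, ← map_mul, ← map_inv, ← map_mul]
      exact congrArg ι (Prod.ext (by simp) (hvb b))
    calc (ι (1, v))⁻¹ * g * ι (1, b) = (ι (1, v))⁻¹ * (g * ι (1, b) * g⁻¹) * g := by group
      _ = ι (1, b) * ((ι (1, v))⁻¹ * g) := by rw [h1]; group

end Frame

variable [Finite G]

/-- `t` is central in the Sylow subgroup `S`. -/
structure Setup (t : G) (S : Sylow 2 G) : Prop extends Config t where
  mem : t ∈ (S : Subgroup G)
  comm : ∀ s ∈ (S : Subgroup G), s * t = t * s

namespace Setup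

variable {t : G} {S : Sylow 2 G} (h : Setup t S)
include h

theorem le_centralizer_t : (S : Subgroup G) ≤ centralizer ({t} : Set G) :=
  fun s hs => mem_centralizer_singleton_iff.2 (h.comm s hs)

theorem t_mem_E : t ∈ sylE S t := ⟨h.mem, self_mem_wc t⟩

theorem card_sylE : Nat.card (sylE S t) = 8 := by
  haveI : Fact (Nat.Prime 2) := ⟨Nat.prime_two⟩
  obtain ⟨ι, hι⟩ := h.toConfig.exists_emb (IsConj.refl t)
  set C := centralizer ({t} : Set G) with hC
  have hQ8 : Nat.card (P8.map ι) = 2 ^ 3 := by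
    rw [card_map_of_injective hι.inj, card_P8]; norm_num
  have hQW : P8.map ι ≤ wc t := by rw [← hι.range]; exact map_le_range _ _
  obtain ⟨R, hR⟩ := (IsPGroup.of_card hQ8).comap_subtype (K := C) |>.exists_le_sylow
  obtain ⟨c, hc⟩ := MulAction.exists_smul_eq C R (S.subtype h.le_centralizer_t)
  have hle : (P8.map ι).map (MulAut.conj (c : G)).toMonoidHom ≤ sylE S t := by
    rintro _ ⟨x, hx, rfl⟩
    refine ⟨?_, conj_mem_wc_self (mem_centralizer_singleton_iff.1 c.2) (hQW hx)⟩
    have hx' : (⟨x, wc_le t (hQW hx)⟩ : C) ∈ (R : Subgroup C) := hR (mem_subgroupOf.2 hx)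
    have hcx : c * ⟨x, wc_le t (hQW hx)⟩ * c⁻¹ ∈ (S.subtype h.le_centralizer_t : Subgroup C) := by
      rw [← hc, Sylow.coe_subgroup_smul]
      exact ⟨_, hx', rfl⟩
    exact hcx
  have h1 := Subgroup.card_dvd_of_le hle
  rw [card_map_of_injective (MulAut.conj (c : G)).injective, hQ8] at h1
  have hp : IsPGroup 2 ↥(sylE S t) := S.isPGroup'.to_le inf_le_left
  obtain ⟨k, hk⟩ := IsPGroup.iff_card.1 hp
  have h2 : Nat.card ↥(sylE S t) ∣ Nat.card ↥(wc t) := Subgroup.card_dvd_of_le inf_le_right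
  rw [hk, hι.card] at h2
  rw [hk] at h1 ⊢
  have hk3 : 3 ≤ k := (Nat.pow_dvd_pow_iff_le_right (by norm_num)).1 h1
  have hk4 : k < 4 := by
    by_contra hc4
    exact absurd ((pow_dvd_pow 2 (not_lt.1 hc4)).trans h2) (by norm_num)
  obtain rfl : k = 3 := by omega
  norm_num

theorem exists_frame_t : ∃ ι, Frame (sylE S t) t ι := by
  obtain ⟨ι, hι⟩ := h.toConfig.exists_emb (IsConj.refl t)
  obtain ⟨a, ha, hm⟩ := hι.adjust inf_le_right h.card_sylE
  exact ⟨_, ha, hm⟩

theorem inter_conj_mem {x : G} (hx : IsConj t x) (hxS : x ∈ (S : Subgroup G)) : x ∈ sylE S t :=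
  ⟨hxS, mem_wc_of hx (h.comm x hxS)⟩

theorem orderOf_conj {x : G} (hx : IsConj t x) : orderOf x = 2 := by
  obtain ⟨g, rfl⟩ := isConj_iff.1 hx
  rw [← MulAut.conj_apply, MulEquiv.orderOf_eq, h.order]

/-- `E` is generated by the conjugates of `t` in it. -/
theorem E_le_closure : sylE S t ≤ closure {x | x ∈ sylE S t ∧ IsConj t x} := by
  obtain ⟨ι, hι⟩ := h.exists_frame_t
  set D := closure {x : G | x ∈ sylE S t ∧ IsConj t x} with hD
  have htD : t ∈ D := subset_closure ⟨h.t_mem_E, IsConj.refl t⟩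
  -- a conjugate of `t` different from `t` in the standard four-group up to `t`
  obtain ⟨m, hm⟩ : ∃ m : M2, IsConj t (ι (m, s0)) := by
    by_contra hno
    push Not at hno
    have hsub : wc t ≤ zpowers t := by
      refine (closure_le _).2 ?_
      rintro x ⟨hx, hxt⟩
      obtain ⟨d, rfl⟩ : x ∈ ι.range := hι.range ▸ mem_wc_of hx hxt
      have hd2 : d * d = 1 := hι.inj (by
        rw [map_mul, map_one, ← pow_two]
        exact orderOf_dvd_iff_pow_eq_one.1 (by rw [h.orderOf_conj hx]))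
      by_cases hd : d.2 = 1
      · rw [central_involution d hd2 (fun e => by
          have := h.orderOf_conj hx; rw [e, map_one, orderOf_one] at this; norm_num at this) hd,
          hι.zed]
        exact mem_zpowers t
      · exfalso
        obtain ⟨a, ha⟩ := involution_conj d.2 (congrArg Prod.snd hd2) hd
        refine hno d.1 (hx.trans (isConj_iff.2 ⟨ι (1, a), ?_⟩))
        rw [← map_inv, ← map_mul, ← map_mul]
        exact congrArg ι (Prod.ext (by simp) ha)
    have h2 := Subgroup.card_le_of_le hsub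
    rw [Nat.card_zpowers, h.order, hι.card] at h2
    omega
  have hall : ∀ v : A5, (v = s0 ∨ v = s1 ∨ v = s0 * s1) → ι (m, v) ∈ D := by
    intro v hv
    refine subset_closure ⟨hι.four_mem m (Or.inr hv), hm.trans (isConj_iff.2 ?_)⟩
    have key : ∀ v : A5, (v = s0 ∨ v = s1 ∨ v = s0 * s1) → ∃ a : A5, a * s0 * a⁻¹ = v := by
      decide +kernel
    obtain ⟨a, ha⟩ := key v hv
    exact ⟨ι (1, a), by
      rw [← map_inv, ← map_mul, ← map_mul]; exact congrArg ι (Prod.ext (by simp) ha)⟩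
  intro x hx
  obtain ⟨⟨n, v⟩, hv, rfl⟩ := hι.mem_E.1 hx
  have hz : ι ((Multiplicative.ofAdd 1 : M2), 1) ∈ D := (hι.zed.trans rfl) ▸ htD
  have hn : ∀ k : M2, ι (k, 1) ∈ D := fun k => by
    rcases fst_cases k with rfl | rfl
    · exact (map_one ι).symm ▸ one_mem D
    · exact hz
  rcases mem_P8.1 hv with h1 | h1
  · obtain rfl : v = 1 := h1
    exact hn n
  · have := mul_mem (hn (n * m⁻¹)) (hall v h1)
    rw [← map_mul] at this
    simpa using this

theorem eq_of_conj_le {g : G} (hg : ∀ x ∈ sylE S t, g * x * g⁻¹ ∈ (S : Subgroup G)) :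
    (sylE S t).map (MulAut.conj g).toMonoidHom = sylE S t := by
  refine eq_of_le_of_card_ge ?_ (card_map_of_injective (MulAut.conj g).injective).ge
  rw [map_le_iff_le_comap]
  refine h.E_le_closure.trans ((closure_le _).2 ?_)
  rintro x ⟨hx, hc⟩
  exact h.inter_conj_mem (hc.trans (isConj_iff.2 ⟨g, rfl⟩)) (hg x hx)

/-- Weak closure: two conjugates of `E` in one centraliser are conjugate there. -/
theorem exists_normalizing {x g : G} (hE : ∀ e ∈ sylE S t, e * x = x * e)
    (hgE : ∀ e ∈ sylE S t, g * e * g⁻¹ * x = x * (g * e * g⁻¹)) :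
    ∃ c, c * x = x * c ∧ c * g ∈ normalizer (sylE S t : Set G) := by
  haveI : Fact (Nat.Prime 2) := ⟨Nat.prime_two⟩
  set E := sylE S t with hEd
  set C := centralizer ({x} : Set G) with hC
  have hE2 : IsPGroup 2 E := S.isPGroup'.to_le inf_le_left
  have hEC : E ≤ C := fun e he => mem_centralizer_singleton_iff.2 (hE e he)
  have hgEC : E.map (MulAut.conj g).toMonoidHom ≤ C := by
    rintro _ ⟨e, he, rfl⟩
    exact mem_centralizer_singleton_iff.2 (hgE e he)
  obtain ⟨P, hP⟩ := (hE2.comap_subtype (K := C)).exists_le_sylow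
  obtain ⟨P', hP'⟩ := ((hE2.map (MulAut.conj g).toMonoidHom).comap_subtype (K := C)).exists_le_sylow
  obtain ⟨c, hc⟩ := MulAction.exists_smul_eq C P' P
  obtain ⟨Q, hQ⟩ := (P.isPGroup'.map C.subtype).exists_le_sylow
  obtain ⟨k, hk⟩ := MulAction.exists_smul_eq G Q S
  have hin : ∀ y, y ∈ (Q : Subgroup G) → k * y * k⁻¹ ∈ (S : Subgroup G) := fun y hy => by
    rw [← hk, Sylow.coe_subgroup_smul]
    exact ⟨y, hy, rfl⟩
  have h1 := h.eq_of_conj_le (g := k) fun e he => hin e (hQ ⟨⟨e, hEC he⟩, hP (mem_subgroupOf.2 he), rfl⟩)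
  have h2 := h.eq_of_conj_le (g := k * c * g) fun e he => by
    have he' : (⟨g * e * g⁻¹, hgEC ⟨e, he, rfl⟩⟩ : C) ∈ (P' : Subgroup C) :=
      hP' (mem_subgroupOf.2 ⟨e, he, rfl⟩)
    have hec : c * ⟨g * e * g⁻¹, hgEC ⟨e, he, rfl⟩⟩ * c⁻¹ ∈ (P : Subgroup C) := by
      rw [← hc, Sylow.coe_subgroup_smul]
      exact ⟨_, he', rfl⟩
    have := hin _ (hQ ⟨_, hec, rfl⟩)
    rw [show k * (c : G) * g * e * (k * (c : G) * g)⁻¹ = k * ((c : G) * (g * e * g⁻¹) * (c : G)⁻¹) * k⁻¹
      by group]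
    exact this
  refine ⟨c, mem_centralizer_singleton_iff.1 c.2, mem_normalizer_iff_map_conj_eq.2 ?_⟩
  have h3 : (E.map (MulAut.conj ((c : G) * g)).toMonoidHom).map (MulAut.conj k).toMonoidHom =
      E.map (MulAut.conj k).toMonoidHom := by
    rw [h1, map_map]
    refine Eq.trans ?_ h2
    congr 1
    ext y
    simp [mul_assoc]
  exact map_injective (MulAut.conj k).injective h3

/-- The elements of `E#` are conjugate to `t`. -/
theorem isConj_of_mem {x : G} (hx : x ∈ sylE S t) (hx1 : x ≠ 1) : IsConj t x := by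
  obtain ⟨ι, hι⟩ := h.exists_frame_t
  set E := sylE S t with hEd
  set X := {x : G | x ∈ E ∧ IsConj t x} with hX
  let N := normalizer (E : Set G)
  let C := centralizer ({t} : Set G)
  have hSN : (S : Subgroup G) ≤ N := by
    intro s hs
    exact mem_normalizer_iff_map_conj_eq.2 (h.eq_of_conj_le fun e he =>
      mul_mem (mul_mem hs he.1) (inv_mem hs))
  -- the orbit of `t` has odd size
  have hodd : Odd (Nat.card X) := by
    let f : N ⧸ C.subgroupOf N → X := Quotient.lift
      (fun n : N => (⟨(n : G) * t * (n : G)⁻¹, (mem_normalizer_iff.1 n.2 t).1 h.t_mem_E,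
        isConj_iff.2 ⟨n, rfl⟩⟩ : X)) (fun a b hab => by
          have hab' := mem_centralizer_singleton_iff.1 (mem_subgroupOf.1 (QuotientGroup.leftRel_apply.1 hab))
          refine Subtype.ext ?_
          show (a : G) * t * (a : G)⁻¹ = (b : G) * t * (b : G)⁻¹
          simp only [coe_mul, coe_inv] at hab'
          calc (a : G) * t * (a : G)⁻¹ = a * (t * ((a : G)⁻¹ * b)) * (b : G)⁻¹ := by group
            _ = a * ((a : G)⁻¹ * b * t) * (b : G)⁻¹ := by rw [hab']
            _ = b * t * (b : G)⁻¹ := by group)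
    have hf : Function.Bijective f := by
      constructor
      · intro a b
        induction a using QuotientGroup.induction_on with | H a =>
        induction b using QuotientGroup.induction_on with | H b =>
        intro hab
        have hab' : (a : G) * t * (a : G)⁻¹ = (b : G) * t * (b : G)⁻¹ := congrArg Subtype.val hab
        refine QuotientGroup.eq.2 (mem_subgroupOf.2 (mem_centralizer_singleton_iff.2 ?_))
        calc ((a : G)⁻¹ * b) * t = (a : G)⁻¹ * ((b : G) * t * (b : G)⁻¹) * b := by group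
          _ = (a : G)⁻¹ * ((a : G) * t * (a : G)⁻¹) * b := by rw [hab']
          _ = t * ((a : G)⁻¹ * b) := by group
      · rintro ⟨y, hy, hc⟩
        obtain ⟨g, rfl⟩ := isConj_iff.1 hc
        obtain ⟨c, hc1, hc2⟩ := h.exists_normalizing (x := g * t * g⁻¹) (g := g)
          (fun e he => hι.E_comm e he _ hy) (fun e he => by
            calc g * e * g⁻¹ * (g * t * g⁻¹) = g * (e * t) * g⁻¹ := by group
              _ = g * (t * e) * g⁻¹ := by rw [hι.E_comm e he t h.t_mem_E]
              _ = g * t * g⁻¹ * (g * e * g⁻¹) := by group)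
        refine ⟨QuotientGroup.mk (⟨c * g, hc2⟩ : N), Subtype.ext ?_⟩
        show c * g * t * (c * g)⁻¹ = g * t * g⁻¹
        calc c * g * t * (c * g)⁻¹ = c * (g * t * g⁻¹) * c⁻¹ := by group
          _ = g * t * g⁻¹ := by rw [hc1, mul_inv_cancel_right]
    rw [← Nat.card_congr (Equiv.ofBijective f hf), ← Subgroup.index]
    have hdvd : (C.subgroupOf N).index ∣ ((S : Subgroup G).subgroupOf N).index :=
      index_dvd_of_le fun y hy => mem_subgroupOf.2 (h.le_centralizer_t (mem_subgroupOf.1 hy))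
    have hdvd2 : ((S : Subgroup G).subgroupOf N).index ∣ (S : Subgroup G).index :=
      relIndex_dvd_index_of_le hSN
    refine Odd.of_dvd_nat ?_ (hdvd.trans hdvd2)
    exact Nat.not_even_iff_odd.1 (fun he => (haveI : Fact (Nat.Prime 2) := ⟨Nat.prime_two⟩; S.not_dvd_index)
      (even_iff_two_dvd.1 he))
  -- the two possible classes of non-central elements
  by_contra hnx
  obtain ⟨m, hm⟩ : ∃ m : M2, ∀ v, (v = s0 ∨ v = s1 ∨ v = s0 * s1) → ¬ IsConj t (ι (m, v)) := by
    obtain ⟨⟨m, v⟩, hd, rfl⟩ := hι.mem_E.1 hx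
    refine ⟨m, fun w hw hc => hnx (hc.trans ?_)⟩
    have key : ∀ v w : A5, (v = s0 ∨ v = s1 ∨ v = s0 * s1) → (w = s0 ∨ w = s1 ∨ w = s0 * s1) →
        ∃ a : A5, a * w * a⁻¹ = v := by decide +kernel
    rcases mem_P8.1 hd with h1 | h1
    · obtain rfl : v = 1 := h1
      rcases fst_cases m with rfl | rfl
      · exact absurd (map_one ι) hx1
      · exact absurd (show IsConj t (ι J1Order.zed) from hι.zed ▸ IsConj.refl t) hnx
    · obtain ⟨a, ha⟩ := key v w h1 hw
      exact isConj_iff.2 ⟨ι (1, a), by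
        rw [← map_inv, ← map_mul, ← map_mul]; exact congrArg ι (Prod.ext (by simp) ha)⟩
  have hex : ∀ v, (v = s0 ∨ v = s1 ∨ v = s0 * s1) →
      IsConj t (ι (m * Multiplicative.ofAdd 1, v)) := by
    intro v hv
    by_contra hno
    have hle : sylE S t ≤ zpowers t := h.E_le_closure.trans ((closure_le _).2 ?_)
    · have := Subgroup.card_le_of_le hle
      rw [h.card_sylE, Nat.card_zpowers, h.order] at this
      omega
    rintro y ⟨hy, hc⟩
    obtain ⟨⟨n, w⟩, hd, rfl⟩ := hι.mem_E.1 hy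
    rcases mem_P8.1 hd with h1 | h1
    · obtain rfl : w = 1 := h1
      rcases fst_cases n with rfl | rfl
      · exact (map_one ι).symm ▸ one_mem _
      · exact (hι.zed.trans rfl : ι ((Multiplicative.ofAdd 1 : M2), 1) = t) ▸ mem_zpowers t
    · exfalso
      have hn := fst_other m n
      rcases hn with rfl | rfl
      · exact hm w h1 hc
      · have key : ∀ v w : A5, (v = s0 ∨ v = s1 ∨ v = s0 * s1) → (w = s0 ∨ w = s1 ∨ w = s0 * s1) →
            ∃ a : A5, a * w * a⁻¹ = v := by decide +kernel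
        obtain ⟨a, ha⟩ := key v w hv h1
        exact hno (hc.trans (isConj_iff.2 ⟨ι (1, a), by
          rw [← map_inv, ← map_mul, ← map_mul]; exact congrArg ι (Prod.ext (by simp) ha)⟩))
  let T : Finset Model := {J1Order.zed, (m * Multiplicative.ofAdd 1, s0),
    (m * Multiplicative.ofAdd 1, s1), (m * Multiplicative.ofAdd 1, s0 * s1)}
  have hXT : X = ι '' (T : Set Model) := by
    ext y
    constructor
    · rintro ⟨hy, hc⟩
      obtain ⟨⟨n, w⟩, hd, rfl⟩ := hι.mem_E.1 hy
      refine ⟨_, ?_, rfl⟩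
      rcases mem_P8.1 hd with h1 | h1
      · obtain rfl : w = 1 := h1
        rcases fst_cases n with rfl | rfl
        · have := h.orderOf_conj hc
          rw [show ((1 : M2), (1 : A5)) = 1 from rfl, map_one, orderOf_one] at this
          norm_num at this
        · simp [T, J1Order.zed]
      · have hne : n ≠ m := fun e => hm w h1 (e ▸ hc)
        have hn : n = m * Multiplicative.ofAdd 1 := (fst_other m n).resolve_left hne
        rcases h1 with h2 | h2 | h2 <;> simp [T, hn, show w = _ from h2]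
    · rintro ⟨d, hd, rfl⟩
      simp only [T, Finset.coe_insert, Finset.coe_singleton, Set.mem_insert_iff,
        Set.mem_singleton_iff] at hd
      rcases hd with rfl | rfl | rfl | rfl
      · rw [hι.zed]; exact ⟨h.t_mem_E, IsConj.refl t⟩
      all_goals exact ⟨hι.four_mem _ (by simp), hex _ (by simp)⟩
  rw [hXT, Nat.card_image_of_injective hι.inj, Nat.card_coe_set_eq, Set.ncard_coe_finset] at hodd
  have h4 : ∀ k : M2, (({J1Order.zed, (k, s0), (k, s1), (k, s0 * s1)} : Finset Model)).card = 4 := by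
    decide +kernel
  rw [h4] at hodd
  exact absurd hodd (by decide)

theorem exists_frame {u : G} (hu : u ∈ sylE S t) (hu1 : u ≠ 1) : ∃ ι, Frame (sylE S t) u ι := by
  obtain ⟨ι, hι⟩ := h.toConfig.exists_emb (h.isConj_of_mem hu hu1)
  obtain ⟨κ, hκ⟩ := h.exists_frame_t
  have hle : sylE S t ≤ wc u := fun x hx => by
    by_cases hx1 : x = 1
    · exact hx1 ▸ one_mem _
    exact mem_wc_of ((h.isConj_of_mem hu hu1).symm.trans (h.isConj_of_mem hx hx1)) (hκ.E_comm x hx u hu)
  obtain ⟨a, ha, hm⟩ := hι.adjust hle h.card_sylE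
  exact ⟨_, ha, hm⟩

/-- `E` is central in `S`. -/
theorem le_centralizer_E : (S : Subgroup G) ≤ centralizer (sylE S t : Set G) := by
  intro s hs
  rw [mem_centralizer_iff]
  obtain ⟨κ, hκ⟩ := h.exists_frame_t
  set E := sylE S t with hEd
  let f : G → G := fun x => s * x * s⁻¹ * x
  have hcl : ∀ x ∈ E, s * x * s⁻¹ ∈ E := fun x hx =>
    (h.eq_of_conj_le (g := s) fun e he => mul_mem (mul_mem hs he.1) (inv_mem hs)).le ⟨x, hx, rfl⟩
  have hfE : ∀ x ∈ E, f x ∈ E := fun x hx => mul_mem (hcl x hx) hx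
  -- the powers of two of the difference map
  have hiter : ∀ k : ℕ, ∀ x ∈ E, f^[2 ^ k] x = s ^ 2 ^ k * x * (s ^ 2 ^ k)⁻¹ * x := by
    intro k
    induction k with
    | zero => intro x hx; simp [f]
    | succ k ih =>
      intro x hx
      have hE' : ∀ j, ∀ y ∈ E, f^[j] y ∈ E := fun j => by
        induction j with
        | zero => exact fun y hy => hy
        | succ j jh => intro y hy; rw [Function.iterate_succ']; exact hfE _ (jh y hy)
      have hpw : ∀ y ∈ E, ∀ j : ℕ, s ^ j * y * (s ^ j)⁻¹ ∈ E := fun y hy j => by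
        induction j with
        | zero => simpa using hy
        | succ j jh =>
          have := hcl _ jh
          rwa [show s * (s ^ j * y * (s ^ j)⁻¹) * s⁻¹ = s ^ (j + 1) * y * (s ^ (j + 1))⁻¹ by group] at this
      rw [pow_succ, mul_two, Function.iterate_add_apply, ih _ (hE' _ _ hx), ih x hx]
      set a := s ^ 2 ^ k
      calc a * (a * x * a⁻¹ * x) * a⁻¹ * (a * x * a⁻¹ * x)
          = (a * a) * x * (a * a)⁻¹ * ((a * x * a⁻¹) * (a * x * a⁻¹)) * x := by group
        _ = s ^ (2 ^ k + 2 ^ k) * x * (s ^ (2 ^ k + 2 ^ k))⁻¹ * x := by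
          rw [hκ.E_sq _ (hpw x hx (2 ^ k)), mul_one, pow_add]
  intro x hx
  by_contra hne
  have h1 : f x ≠ 1 := fun e => hne (by
    have e' : s * x * s⁻¹ = x := by
      rw [eq_inv_of_mul_eq_one_left e, inv_eq_of_mul_eq_one_left (hκ.E_sq x hx)]
    exact (mul_inv_eq_iff_eq_mul.1 e').symm)
  obtain ⟨k, hk⟩ := S.isPGroup' ⟨s, hs⟩
  have hend : f^[2 ^ k] x = 1 := by
    have hk' : s ^ 2 ^ k = 1 := congrArg Subtype.val hk
    rw [hiter k x hx, hk', one_mul, inv_one, mul_one, hκ.E_sq x hx]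
  classical
  have hex : ∃ j, f^[j + 1] x = 1 := ⟨2 ^ k - 1, by rw [Nat.sub_add_cancel Nat.one_le_two_pow]; exact hend⟩
  have hj := Nat.find_spec hex
  obtain ⟨i, hi⟩ : ∃ i, Nat.find hex = i + 1 := Nat.exists_eq_succ_of_ne_zero fun e => h1 (by rw [e] at hj; simpa using hj)
  -- the last non-trivial difference `v` is fixed by `s`
  set y := f^[i] x
  set v := f y with hv
  have hiterE : ∀ j, f^[j] x ∈ E := fun j => by
    induction j with
    | zero => exact hx
    | succ j jh => rw [Function.iterate_succ']; exact hfE _ jh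
  have hvfi : v = f^[i + 1] x := by rw [Function.iterate_succ']; rfl
  have hv1 : v ≠ 1 := hvfi ▸ Nat.find_min hex (by omega : i < Nat.find hex)
  have hvs : s * v * s⁻¹ * v = 1 := by
    rw [hi, Function.iterate_succ', Function.comp_apply, ← hvfi] at hj
    exact hj
  have hvE : v ∈ E := hfE _ (hiterE i)
  have hsv : s * v = v * s := by
    have e : s * v * s⁻¹ = v := by
      rw [eq_inv_of_mul_eq_one_left hvs, inv_eq_of_mul_eq_one_left (hκ.E_sq v hvE)]
    exact mul_inv_eq_iff_eq_mul.1 e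
  obtain ⟨ι, hι⟩ := h.exists_frame hvE hv1
  obtain ⟨⟨n, w⟩, hd, hdy⟩ := hι.mem_E.1 (hiterE i)
  obtain ⟨w', hw'⟩ := hι.conj_inr hsv w
  have hfix : s * ι (n, 1) * s⁻¹ = ι (n, 1) := by
    rcases fst_cases n with rfl | rfl
    · simp [show ((1 : M2), (1 : A5)) = 1 from rfl]
    · rw [show ι ((Multiplicative.ofAdd 1 : M2), 1) = v from hι.zed, hsv, mul_inv_cancel_right]
  have hsp : ((n, w) : Model) = (n, 1) * (1, w) := Prod.ext (by simp) (by simp)
  have hcalc : v = ι ((n, w') * (n, w)) := by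
    rw [hv]
    show s * y * s⁻¹ * y = _
    rw [show y = ι (n, w) from hdy.symm, map_mul]
    congr 1
    rw [hsp, show ((n, w') : Model) = (n, 1) * (1, w') from Prod.ext (by simp) (by simp), map_mul, map_mul,
      show s * (ι (n, 1) * ι (1, w)) * s⁻¹ = (s * ι (n, 1) * s⁻¹) * (s * ι (1, w) * s⁻¹) by group,
      hfix, hw']
  have h3 := congrArg Prod.fst (hι.inj (hcalc.symm.trans hι.zed.symm))
  change n * n = Multiplicative.ofAdd 1 at h3
  rcases fst_cases n with rfl | rfl <;> exact absurd h3 (by decide +kernel)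

end Setup

end Cfsg.Agent.Lib.WeakClosureJ1
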