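import Cfsg.Agent.Lib.WeakClosureJ1.Proper
import Cfsg.Agent.S1644

/-!
The normal closure of a 2-central involution with weak closure `2 × A₅` is the Janko group.
-/

set_option autoImplicit false
set_option linter.style.haveILetI false
set_option linter.unusedSectionVars false

namespace Cfsg.Agent.Lib.WeakClosureJ1

open Subgroup Cfsg.Agent.Lib.J1Order

universe u

theorem isoJ1_top {H : Type*} [Group H] {K : Subgroup H} (hK : K = ⊤) :
    Cfsg.Spor.IsoJ1 K ↔ Cfsg.Spor.IsoJ1 H :=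
  ⟨fun ⟨e⟩ => ⟨((MulEquiv.subgroupCongr hK).trans topEquiv).symm.trans e⟩,
    fun ⟨e⟩ => ⟨((MulEquiv.subgroupCongr hK).trans topEquiv).trans e⟩⟩

variable {G : Type u} [Group G] [Finite G] {t : G} {S : Sylow 2 G}

/-- The normal closure of `t` inside the normal closure of `t` is everything, and it satisfies the
hypotheses. -/
theorem Setup.normalClosure_spec (h : Setup t S) :
    ∃ htK : t ∈ normalClosure ({t} : Set G),
      Config (⟨t, htK⟩ : normalClosure ({t} : Set G)) ∧
      normalClosure ({(⟨t, htK⟩ : normalClosure ({t} : Set G))} : Set (normalClosure ({t} : Set G))) = ⊤ := by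
  haveI : Fact (Nat.Prime 2) := ⟨Nat.prime_two⟩
  set K := normalClosure ({t} : Set G) with hKd
  haveI hKn : K.Normal := normalClosure_normal
  have htK : t ∈ K := subset_normalClosure (Set.mem_singleton t)
  have hJK : joinWc S t ≤ K := h.joinWc_le_of_normal htK
  obtain ⟨T, hT⟩ := (S.isPGroup'.comap_subtype (K := K)).exists_le_sylow
  have hTS : ∀ x ∈ (T : Subgroup K), (x : G) ∈ (S : Subgroup G) := by
    obtain ⟨S', hS'⟩ := (T.isPGroup'.map K.subtype).exists_le_sylow
    obtain ⟨g, hg⟩ := MulAction.exists_smul_eq G S S'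
    have hS'K : (S' : Subgroup G) ⊓ K = ((S : Subgroup G) ⊓ K).map (MulAut.conj g).toMonoidHom := by
      rw [Subgroup.map_inf _ _ _ (MulAut.conj g).injective, ← hg, Sylow.coe_subgroup_smul]
      congr 1
      refine (eq_of_le_of_card_ge ?_ (card_map_of_injective (MulAut.conj g).injective).ge).symm
      rintro _ ⟨x, hx, rfl⟩
      exact hKn.conj_mem x hx g
    have h1 : (T : Subgroup K).map K.subtype ≤ (S' : Subgroup G) ⊓ K :=
      le_inf hS' (map_subtype_le _)
    have h2 : (S : Subgroup G) ⊓ K ≤ (T : Subgroup K).map K.subtype := by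
      rw [← subgroupOf_map_subtype]
      exact map_mono hT
    have heq : (S : Subgroup G) ⊓ K = (T : Subgroup K).map K.subtype := eq_of_le_of_card_ge h2 (by
      refine (Subgroup.card_le_of_le h1).trans_eq ?_
      rw [hS'K, card_map_of_injective (MulAut.conj g).injective])
    intro x hx
    exact (heq.ge ⟨x, hx, rfl⟩).1
  have hconf : Config (⟨t, htK⟩ : K) := h.config_subgroup hJK T (hT (mem_subgroupOf.2 h.mem))
    (fun s hs => h.comm s (hTS s hs))
  refine ⟨htK, hconf, ?_⟩
  set N := normalClosure ({(⟨t, htK⟩ : K)} : Set K) with hN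
  have hle : K ≤ N.map K.subtype := by
    refine (closure_le _).2 ?_
    intro y hy
    obtain ⟨a, ha, hay⟩ := Group.mem_conjugatesOfSet_iff.1 hy
    rw [Set.mem_singleton_iff] at ha
    rw [ha] at hay
    have hyK : y ∈ K := subset_closure hy
    have hy2 : orderOf (⟨y, hyK⟩ : K) = 2 := by rw [Subgroup.orderOf_mk, h.orderOf_conj hay]
    obtain ⟨P, hP⟩ := (IsPGroup.of_card (n := 1) (by rw [Nat.card_zpowers, hy2, pow_one]) :
      IsPGroup 2 (zpowers (⟨y, hyK⟩ : K))).exists_le_sylow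
    obtain ⟨k, hk⟩ := MulAction.exists_smul_eq K P T
    have hm : k * ⟨y, hyK⟩ * k⁻¹ ∈ (T : Subgroup K) := by
      rw [← hk, Sylow.coe_subgroup_smul]
      exact ⟨_, hP (mem_zpowers _), rfl⟩
    obtain ⟨l, hl, hlt⟩ := h.exists_conj_of_commute (x := (k : G) * y * (k : G)⁻¹)
      (hay.trans (isConj_iff.2 ⟨k, rfl⟩)) (h.comm _ (hTS _ hm))
    have hyN : ((k⁻¹ * ⟨l, hJK hl⟩ : K) * ⟨t, htK⟩ * (k⁻¹ * ⟨l, hJK hl⟩ : K)⁻¹) ∈ N :=
      (normalClosure_normal : N.Normal).conj_mem _ (subset_normalClosure (Set.mem_singleton _)) _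
    refine ⟨_, hyN, ?_⟩
    show (k : G)⁻¹ * l * t * ((k : G)⁻¹ * l)⁻¹ = y
    rw [show (k : G)⁻¹ * l * t * ((k : G)⁻¹ * l)⁻¹ = (k : G)⁻¹ * (l * t * l⁻¹) * k by group, hlt]
    group
  refine eq_top_iff.2 fun x _ => ?_
  obtain ⟨y, hy, hyx⟩ := hle x.2
  rwa [← K.subtype_injective hyx]

/-- The characterisation. -/
theorem main : ∀ (n : ℕ) (G : Type u) [Group G] [Finite G], Nat.card G = n → ∀ t : G, Config t →
    Cfsg.Spor.IsoJ1 ↥(normalClosure ({t} : Set G)) := by
  intro n
  induction n using Nat.strong_induction_on with | _ n ih => ?_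
  intro G _ _ hn t hc
  subst hn
  have IH : ∀ (H : Type u) [Group H] [Finite H], Nat.card H < Nat.card G →
      ∀ s : H, Config s → Cfsg.Spor.IsoJ1 ↥(normalClosure ({s} : Set H)) :=
    fun H _ _ hlt s hs => ih _ hlt H rfl s hs
  obtain ⟨S, h⟩ := hc.exists_setup
  by_cases htop : normalClosure ({t} : Set G) = ⊤
  swap
  · obtain ⟨htK, hconf, hKtop⟩ := h.normalClosure_spec
    exact (isoJ1_top hKtop).1 (IH _ (lt_of_le_of_ne (Subgroup.card_le_card_group _)
      fun e => htop (eq_top_of_card_eq _ e)) _ hconf)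
  refine (isoJ1_top htop).2 ?_
  have hZ := h.center_eq_bot htop IH
  haveI : IsSimpleGroup G := h.isSimpleGroup htop hZ
  by_cases hL : joinWc S t = ⊤
  swap
  · exact (h.false_of_proper htop hZ IH hL).elim
  have hC : centralizer ({t} : Set G) = wc t := by
    refine le_antisymm (fun g hg => ?_) (wc_le t)
    obtain ⟨w, hw, q, hq, rfl⟩ := h.exists_mul h.t_mem_E h.t_ne_one hg
    rw [hL] at hq
    have hqZ : q ∈ center G := mem_center_iff.2 fun y => hq y (mem_top y)
    rw [hZ, mem_bot] at hqZ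
    rwa [hqZ, mul_one]
  obtain ⟨e⟩ := h.iso
  exact Cfsg.Agent.S1644.result S ⟨⟨fun a b => Subtype.ext (h.sylow_comm htop hZ a a.2 b b.2)⟩⟩
    (h.card_sylow htop hZ) t h.order ((MulEquiv.subgroupCongr hC).trans e)

end Cfsg.Agent.Lib.WeakClosureJ1
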