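import Cfsg.Agent.Lib.J1Order.AltFive

/-!
Finite facts on `2 × A₅` and the weak closure of an involution.
-/

set_option autoImplicit false

namespace Cfsg.Agent.Lib.WeakClosureJ1

open Subgroup Cfsg.Agent.Lib.J1Order

local notation "A5" => alternatingGroup (Fin 5)
local notation "M2" => Multiplicative (ZMod 2)

/-- The standard Sylow 2-subgroup of the model. -/
def P8 : Subgroup Model := (⊤ : Subgroup M2).prod four

theorem mem_P8 {d : Model} : d ∈ P8 ↔ (d.2 = 1 ∨ d.2 = s0 ∨ d.2 = s1 ∨ d.2 = s0 * s1) :=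
  ⟨fun h => h.2, fun h => ⟨trivial, h⟩⟩

theorem card_P8 : Nat.card P8 = 8 := by
  rw [P8, Nat.card_congr (Subgroup.prodEquiv _ _).toEquiv, Nat.card_prod, card_four,
    Nat.card_congr Subgroup.topEquiv.toEquiv, Nat.card_congr Multiplicative.toAdd, Nat.card_zmod]

theorem card_model : Nat.card Model = 120 := by
  rw [Nat.card_prod, Nat.card_eq_fintype_card, Nat.card_eq_fintype_card, card_cent.2.2.2]
  rfl

theorem fst_cases : ∀ m : M2, m = 1 ∨ m = Multiplicative.ofAdd 1 := by decide +kernel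

theorem g5_g3 : g3 = g5 * s1 * g5 * g5 := by decide +kernel

theorem gen_cover : ∀ b : A5, ∃ i : Fin 5, ∃ j : Fin 3, ∃ v : A5,
    (v = 1 ∨ v = s0 ∨ v = s1 ∨ v = s0 * s1) ∧ b = g5 ^ (i : ℕ) * v * g3 ^ (j : ℕ) := by
  decide +kernel

theorem aut_key : ∀ z : A5, z ^ 5 = 1 → z ≠ 1 → (s0 * z) ^ 3 = 1 → (s1 * z) ^ 5 = 1 →
    (s0 * s1 * z) ^ 2 = 1 → ∃ v : A5, (v = 1 ∨ v = s0 ∨ v = s1 ∨ v = s0 * s1) ∧ z = v * g5 * v⁻¹ := by
  decide +kernel

theorem g5_rel : g5 ≠ 1 ∧ (s0 * g5) ^ 3 = 1 ∧ (s1 * g5) ^ 5 = 1 ∧ (s0 * s1 * g5) ^ 2 = 1 := by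
  decide +kernel

theorem four_comm : ∀ v w : A5, (v = 1 ∨ v = s0 ∨ v = s1 ∨ v = s0 * s1) →
    (w = 1 ∨ w = s0 ∨ w = s1 ∨ w = s0 * s1) → v * w * v⁻¹ = w := by
  decide +kernel

/-- An endomorphism fixing the four-group pointwise is conjugation by one of its elements. -/
theorem aut_lemma (φ : A5 →* A5) (hφ : Function.Injective φ) (h0 : φ s0 = s0) (h1 : φ s1 = s1) :
    ∃ v : A5, (v = 1 ∨ v = s0 ∨ v = s1 ∨ v = s0 * s1) ∧ ∀ b, φ b = v * b * v⁻¹ := by
  obtain ⟨hne, r0, r1, r2⟩ := g5_rel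
  obtain ⟨v, hv, hz⟩ := aut_key (φ g5) (by rw [← map_pow, g5_pow, map_one])
    (fun e => hne (hφ (e.trans (map_one φ).symm)))
    (by rw [← h0, ← map_mul, ← map_pow, r0, map_one])
    (by rw [← h1, ← map_mul, ← map_pow, r1, map_one])
    (by rw [← h0, ← h1, ← map_mul, ← map_mul, ← map_pow, r2, map_one])
  refine ⟨v, hv, ?_⟩
  let ψ : A5 →* A5 := (MulAut.conj v).toMonoidHom
  have key : ∀ b, ψ b = φ b := by
    have e0 : ψ s0 = φ s0 := (four_comm v s0 hv (by simp)).trans h0.symm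
    have e1 : ψ s1 = φ s1 := (four_comm v s1 hv (by simp)).trans h1.symm
    have e5 : ψ g5 = φ g5 := hz.symm
    have e3 : ψ g3 = φ g3 := by rw [g5_g3]; simp only [map_mul, e1, e5]
    intro b
    obtain ⟨i, j, w, hw, rfl⟩ := gen_cover b
    rcases hw with rfl | rfl | rfl | rfl <;> simp only [map_mul, map_pow, map_one, e0, e1, e3, e5]
  exact fun b => (key b).symm

theorem g3_fix : ∀ v : A5, (v = 1 ∨ v = s0 ∨ v = s1 ∨ v = s0 * s1) → g3 * v * g3⁻¹ = v → v = 1 := by
  decide +kernel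

theorem commutator_surj : ∀ b : A5, ∃ a : A5, ∃ c : A5, b = a * c * a⁻¹ * c⁻¹ := by
  decide +kernel

theorem commute_g3_g5 : ∀ b : A5, b * g3 = g3 * b → b * g5 = g5 * b → b = 1 := center_eq

/-- The weak closure of `u` in its centraliser. -/
def wc {G : Type*} [Group G] (u : G) : Subgroup G :=
  closure {x : G | IsConj u x ∧ x * u = u * x}

variable {G : Type*} [Group G]

theorem mem_wc_of {u x : G} (h : IsConj u x) (hc : x * u = u * x) : x ∈ wc u :=
  subset_closure ⟨h, hc⟩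

theorem self_mem_wc (u : G) : u ∈ wc u := mem_wc_of (IsConj.refl u) rfl

theorem wc_le (u : G) : wc u ≤ centralizer ({u} : Set G) :=
  (closure_le _).2 fun _ hx => mem_centralizer_singleton_iff.2 hx.2

theorem conj_mem_wc {u x : G} (g : G) (hx : x ∈ wc u) : g * x * g⁻¹ ∈ wc (g * u * g⁻¹) := by
  refine (map_le_iff_le_comap.1 ?_ : wc u ≤ (wc (g * u * g⁻¹)).comap (MulAut.conj g).toMonoidHom) hx
  rw [wc, MonoidHom.map_closure, closure_le]
  rintro _ ⟨y, ⟨hy1, hy2⟩, rfl⟩
  refine mem_wc_of ((MulAut.conj g).toMonoidHom.map_isConj hy1) ?_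
  show g * y * g⁻¹ * (g * u * g⁻¹) = g * u * g⁻¹ * (g * y * g⁻¹)
  calc g * y * g⁻¹ * (g * u * g⁻¹) = g * (y * u) * g⁻¹ := by group
    _ = g * (u * y) * g⁻¹ := by rw [hy2]
    _ = g * u * g⁻¹ * (g * y * g⁻¹) := by group

theorem conj_mem_wc_self {u x g : G} (hg : g * u = u * g) (hx : x ∈ wc u) : g * x * g⁻¹ ∈ wc u := by
  have h := conj_mem_wc g hx
  rwa [hg, mul_inv_cancel_right] at h

/-- The hypotheses of the characterisation. -/
structure Config (t : G) : Prop where
  order : orderOf t = 2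
  central : ∃ S : Sylow 2 G, t ∈ (S : Subgroup G) ∧ ∀ s ∈ (S : Subgroup G), s * t = t * s
  iso : Nonempty (wc t ≃* Model)

/-- An identification of the weak closure of `u` with the model. -/
structure Emb (u : G) (ι : Model →* G) : Prop where
  inj : Function.Injective ι
  range : ι.range = wc u
  zed : ι zed = u

theorem Config.exists_emb {t u : G} (h : Config t) (hu : IsConj t u) : ∃ ι, Emb u ι := by
  obtain ⟨e⟩ := h.iso
  let κ : Model →* G := (wc t).subtype.comp e.symm.toMonoidHom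
  have hκ : Function.Injective κ := Subtype.val_injective.comp e.symm.injective
  have hκr : κ.range = wc t := by
    ext x
    constructor
    · rintro ⟨d, rfl⟩
      exact (e.symm d).2
    · exact fun hx => ⟨e ⟨x, hx⟩, by simp [κ]⟩
  have hz : κ J1Order.zed = t := by
    set d := e ⟨t, self_mem_wc t⟩ with hd
    have hκd : κ d = t := by simp [κ, hd]
    have hcom : ∀ d', d * d' = d' * d := fun d' => hκ (by
      rw [map_mul, map_mul, hκd]
      exact (mem_centralizer_singleton_iff.1 (wc_le t (hκr ▸ ⟨d', rfl⟩ : κ d' ∈ wc t))).symm)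
    have h2 : d.2 = 1 := commute_g3_g5 _ (congrArg Prod.snd (hcom (1, g3)))
      (congrArg Prod.snd (hcom (1, g5)))
    have hd2 : d * d = 1 := hκ (by
      rw [map_mul, hκd, map_one, ← pow_two, ← h.order, pow_orderOf_eq_one])
    have hd1 : d ≠ 1 := fun e0 => by
      have := h.order
      rw [← hκd, e0, map_one, orderOf_one] at this
      norm_num at this
    rw [← central_involution d hd2 hd1 h2, hκd]
  obtain ⟨g, hg⟩ := isConj_iff.1 hu
  refine ⟨(MulAut.conj g).toMonoidHom.comp κ, (MulAut.conj g).injective.comp hκ, ?_, ?_⟩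
  · ext x
    constructor
    · rintro ⟨d, rfl⟩
      rw [← hg]
      exact conj_mem_wc g (hκr ▸ ⟨d, rfl⟩)
    · intro hx
      have h' := conj_mem_wc g⁻¹ hx
      rw [← hg, show g⁻¹ * (g * t * g⁻¹) * g⁻¹⁻¹ = t by group, ← hκr] at h'
      obtain ⟨d, hd⟩ := h'
      refine ⟨d, ?_⟩
      show g * κ d * g⁻¹ = x
      rw [hd]; group
  · show g * κ J1Order.zed * g⁻¹ = u
    rw [hz, hg]

theorem Emb.mem {u : G} {ι : Model →* G} (h : Emb u ι) (d : Model) : ι d ∈ wc u :=
  h.range ▸ ⟨d, rfl⟩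

theorem Emb.comm {u : G} {ι : Model →* G} (h : Emb u ι) (d : Model) : ι d * u = u * ι d :=
  mem_centralizer_singleton_iff.1 (wc_le u (h.mem d))

theorem Emb.card {u : G} {ι : Model →* G} (h : Emb u ι) : Nat.card (wc u) = 120 := by
  rw [← h.range, ← Nat.card_congr (MonoidHom.ofInjective h.inj).toEquiv, card_model]

/-- The embedding can be adjusted to map the standard Sylow subgroup onto a given one. -/
theorem Emb.adjust {u : G} {ι : Model →* G} (h : Emb u ι) {P : Subgroup G} (hP : P ≤ wc u)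
    (h8 : Nat.card P = 8) :
    ∃ a : Model, Emb u (ι.comp (MulAut.conj a).toMonoidHom) ∧
      P8.map (ι.comp (MulAut.conj a).toMonoidHom) = P := by
  haveI : Fact (Nat.Prime 2) := ⟨Nat.prime_two⟩
  have hle : P ≤ ι.range := h.range ▸ hP
  have hc : Nat.card (P.comap ι) = 8 := by
    rw [← card_map_of_injective h.inj, map_comap_eq_self hle, h8]
  have hf : (Nat.card Model).factorization 2 = 3 := by
    rw [card_model, show (120 : ℕ) = 2 ^ 3 * 15 by norm_num, Nat.factorization_mul (by norm_num)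
      (by norm_num), Finsupp.add_apply, Nat.prime_two.factorization_pow, Finsupp.single_eq_same,
      Nat.factorization_eq_zero_of_not_dvd (by norm_num : ¬ 2 ∣ 15)]
  let Q : Sylow 2 Model := Sylow.ofCard P8 (by rw [card_P8, hf]; rfl)
  let R : Sylow 2 Model := Sylow.ofCard (P.comap ι) (by rw [hc, hf]; rfl)
  obtain ⟨a, ha⟩ := MulAction.exists_smul_eq Model Q R
  refine ⟨a, ⟨h.inj.comp (MulAut.conj a).injective, ?_, ?_⟩, ?_⟩
  · rw [MonoidHom.range_comp, MonoidHom.range_eq_top.2 (MulAut.conj a).surjective,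
      ← MonoidHom.range_eq_map, h.range]
  · show ι (a * J1Order.zed * a⁻¹) = u
    have hz : a * J1Order.zed * a⁻¹ = J1Order.zed := by
      ext <;> simp [J1Order.zed]
    rw [hz, h.zed]
  · have hR : P8.map (MulAut.conj a).toMonoidHom = P.comap ι := by
      have := congrArg (fun X : Sylow 2 Model => (X : Subgroup Model)) ha
      simp only [Sylow.coe_subgroup_smul, Q, R, Sylow.coe_ofCard] at this
      rw [← this]
      rfl
    rw [← map_map, hR, map_comap_eq_self hle]

end Cfsg.Agent.Lib.WeakClosureJ1
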