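import Mathlib

/-!
Subgroups of odd order of a simple group of order `175560` with involution centralisers of order `120`.
-/

set_option autoImplicit false

namespace Cfsg.Agent.Lib.WeakClosureJ1

open Subgroup

theorem mem_centralizer_of_coprime {H : Type*} [Group H] [Finite H] {p : ℕ} [hp : Fact p.Prime]
    {P : Subgroup H} (hP : Nat.card P = p) {y : H} (hy : y ∈ normalizer (P : Set H))
    (hc : (orderOf y).Coprime (p - 1)) : y ∈ centralizer (P : Set H) := by
  haveI : IsCyclic P := isCyclic_of_prime_card hP
  set w := P.normalizerMonoidHom ⟨y, hy⟩ with hw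
  have h1 : orderOf w ∣ orderOf y := by
    have := orderOf_map_dvd P.normalizerMonoidHom (⟨y, hy⟩ : normalizer (P : Set H))
    rwa [← Subgroup.orderOf_coe] at this
  have h2 : orderOf w ∣ p - 1 := by
    have := orderOf_dvd_natCard w
    rwa [IsCyclic.card_mulAut, hP, Nat.totient_prime hp.out] at this
  have h3 : w = 1 := orderOf_eq_one_iff.1 (Nat.eq_one_of_dvd_coprimes hc h1 h2)
  have h4 : (⟨y, hy⟩ : normalizer (P : Set H)) ∈ P.normalizerMonoidHom.ker := h3
  rw [normalizerMonoidHom_ker] at h4
  exact mem_subgroupOf.1 h4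

theorem exists_commuting_pair {H : Type*} [Group H] [Finite H] {p q : ℕ} [hp : Fact p.Prime]
    [hq : Fact q.Prime] {P : Subgroup H} (hP : Nat.card P = p)
    (hdvd : q ∣ Nat.card (normalizer (P : Set H))) (hc : q.Coprime (p - 1)) :
    ∃ x y : H, orderOf x = p ∧ orderOf y = q ∧ x * y = y * x := by
  obtain ⟨y, hy⟩ := exists_prime_orderOf_dvd_card' q hdvd
  obtain ⟨x, hx⟩ := exists_prime_orderOf_dvd_card' (G := P) p (by rw [hP])
  rw [← Subgroup.orderOf_coe] at hy hx
  have := mem_centralizer_of_coprime hP y.2 (by rw [hy]; exact hc)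
  exact ⟨x, y, hx, hy, this x x.2⟩

theorem sylow_count_list : ((List.range 9241).all fun n => decide (9240 % n ≠ 0) || decide (n % 19 ≠ 1) ||
    decide (n ∈ [1, 20, 77, 210, 1540])) = true := by decide +kernel

theorem seven_count_list : ((List.range 3136).all fun n => decide (3135 % n ≠ 0) || decide (n % 7 ≠ 1) ||
    decide (n ∈ [1, 15, 57])) = true := by decide +kernel

theorem odd_divisors_list : ((List.range 21946).all fun d => decide (21945 % d ≠ 0) || decide (d < 1463) ||
    decide (d ∈ [1463, 1995, 3135, 4389, 7315, 21945])) = true := by decide +kernel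

variable {L : Type*} [Group L] [Finite L] [IsSimpleGroup L]
  (hL : Nat.card L = 175560)
  (hinv : ∀ i : L, orderOf i = 2 → Nat.card (centralizer ({i} : Set L)) = 120)
include hL hinv

/-- No element of order `19` commutes with one of order `7` or `11`. -/
theorem not_commute {q : ℕ} (hq : q = 7 ∨ q = 11) {x y : L} (hx : orderOf x = 19) (hy : orderOf y = q)
    (hc : x * y = y * x) : False := by
  haveI : Fact (Nat.Prime 19) := ⟨by norm_num⟩
  let P : Sylow 19 L := Sylow.ofCard (zpowers x) (by
    rw [Nat.card_zpowers, hx, hL, show (175560 : ℕ) = 19 ^ 1 * 9240 by norm_num,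
      Nat.factorization_mul (by norm_num) (by norm_num), Finsupp.add_apply,
      (by norm_num : Nat.Prime 19).factorization_pow, Finsupp.single_eq_same,
      Nat.factorization_eq_zero_of_not_dvd (by norm_num : ¬ 19 ∣ 9240)]
    norm_num)
  have hPx : (P : Subgroup L) = zpowers x := Sylow.coe_ofCard _ _
  set N := normalizer ((P : Subgroup L) : Set L) with hN
  have hxN : x ∈ N := le_normalizer (by rw [hPx]; exact mem_zpowers x)
  have hyN : y ∈ N := by
    refine mem_normalizer_iff_map_conj_eq.2 ?_
    rw [hPx, MonoidHom.map_zpowers]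
    congr 1
    show y * x * y⁻¹ = x
    rw [← hc, mul_inv_cancel_right]
  have h19 : 19 ∣ Nat.card N := hx ▸ Subgroup.orderOf_dvd_natCard N hxN
  have hqN : q ∣ Nat.card N := hy ▸ Subgroup.orderOf_dvd_natCard N hyN
  have hmul := N.card_mul_index
  have hn : N.index % 19 = 1 := by
    have e : Nat.card (Sylow 19 L) = N.index := P.card_eq_index_normalizer
    rw [← e]; exact card_sylow_modEq_one 19 L
  obtain ⟨k, hk⟩ := h19
  rw [hk, hL] at hmul
  have hkn : k * N.index = 9240 := by linarith [hmul]
  have hmem := (List.all_eq_true.1 sylow_count_list) N.index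
    (List.mem_range.2 (Nat.lt_succ_of_le (Nat.le_of_dvd (by norm_num) ⟨k, by rw [mul_comm, hkn]⟩)))
  have h0 : 9240 % N.index = 0 := Nat.mod_eq_zero_of_dvd ⟨k, by rw [mul_comm, hkn]⟩
  simp only [Bool.or_eq_true, decide_eq_true_eq, h0, hn, ne_eq, not_true_eq_false, false_or,
    List.mem_cons, List.not_mem_nil, or_false] at hmem
  rcases hmem with h1 | h1 | h1 | h1 | h1
  · have hne : N = ⊤ := index_eq_one.1 h1
    have hnorm : (P : Subgroup L).Normal := normalizer_eq_top_iff.1 hne
    rcases hnorm.eq_bot_or_eq_top with e | e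
    · have := congrArg (fun H : Subgroup L => Nat.card H) (hPx ▸ e)
      simp [hx] at this
    · have := congrArg (fun H : Subgroup L => Nat.card H) (hPx ▸ e)
      simp [hx, hL] at this
  · -- index twenty: the centraliser of a 19-cycle
    have hNtop : N ≠ ⊤ := fun e => by rw [e, index_top] at h1; norm_num at h1
    have hcore : N.normalCore = ⊥ := (N.normalCore_normal.eq_bot_or_eq_top).resolve_right fun e =>
      hNtop (eq_top_iff.2 (e ▸ N.normalCore_le))
    have hfaith : ∀ z : L, (∀ p : L ⧸ N, z • p = p) → z = 1 := fun z hz => by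
      have : z ∈ N.normalCore := by
        rw [normalCore_eq_ker, MonoidHom.mem_ker]
        exact Equiv.ext hz
      rwa [hcore, mem_bot] at this
    have hfix : ∀ g : L, x • (g : L ⧸ N) = g → (g : L ⧸ N) = ((1 : L) : L ⧸ N) := by
      intro g hg
      have hz : g⁻¹ * x * g ∈ N := by
        have := QuotientGroup.eq.1 hg.symm
        simpa [mul_assoc] using this
      have hzp : IsPGroup 19 (zpowers (g⁻¹ * x * g)) := IsPGroup.of_card (n := 1) (by
        rw [Nat.card_zpowers, show g⁻¹ * x * g = MulAut.conj g⁻¹ x by simp, MulEquiv.orderOf_eq, hx]; norm_num)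
      have hsup := hzp.to_sup_of_normal_right' P.2 (zpowers_le.2 hz)
      have hin : g⁻¹ * x * g ∈ (P : Subgroup L) :=
        (P.3 hsup le_sup_right) ▸ mem_sup_left (mem_zpowers _)
      refine (QuotientGroup.eq.2 ?_)
      rw [mul_one]
      refine inv_mem ?_
      have : g⁻¹ ∈ N := by
        refine mem_normalizer_iff_map_conj_eq.2 (eq_of_le_of_card_ge ?_
          (card_map_of_injective (MulAut.conj _).injective).ge)
        rw [hPx, MonoidHom.map_zpowers, zpowers_le, ← hPx]
        simpa using hin
      simpa using inv_mem this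
    classical
    letI : Fintype (L ⧸ N) := Fintype.ofFinite _
    have hbase : ∀ z ∈ N, z • ((1 : L) : L ⧸ N) = ((1 : L) : L ⧸ N) := fun z hz =>
      (QuotientGroup.eq.2 (by simpa using hz) : ((z * 1 : L) : L ⧸ N) = ((1 : L) : L ⧸ N))
    have hmov : ∀ p : L ⧸ N, x • p = p → p = ((1 : L) : L ⧸ N) := fun p => by
      induction p using QuotientGroup.induction_on with | H g => exact hfix g
    obtain ⟨p, hp⟩ : ∃ p : L ⧸ N, p ≠ ((1 : L) : L ⧸ N) := by
      haveI : Nontrivial (L ⧸ N) := Fintype.one_lt_card_iff_nontrivial.1 (by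
        rw [← Nat.card_eq_fintype_card, ← index_eq_card, h1]; norm_num)
      exact exists_ne _
    have hne : ∀ i : ℕ, x ^ i • p ≠ ((1 : L) : L ⧸ N) := fun i e => hp (by
      rw [← inv_smul_smul (x ^ i) p, e, hbase _ (inv_mem (pow_mem hxN i))])
    let f : Fin 19 → {r : L ⧸ N // r ≠ ((1 : L) : L ⧸ N)} := fun i => ⟨x ^ (i : ℕ) • p, hne i⟩
    have hinj : Function.Injective f := by
      intro i j hij
      have h : x ^ (i : ℕ) • p = x ^ (j : ℕ) • p := congrArg Subtype.val hij
      by_contra hne'
      wlog hlt : (i : ℕ) < j generalizing i j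
      · exact this hij.symm h.symm (Ne.symm hne')
          (lt_of_le_of_ne (not_lt.1 hlt) (fun e => hne' (Fin.ext e.symm)))
      have hz : x ^ ((j : ℕ) - i) • p = p := by
        refine MulAction.injective (x ^ (i : ℕ)) ?_
        show x ^ (i : ℕ) • x ^ ((j : ℕ) - i) • p = x ^ (i : ℕ) • p
        rw [smul_smul, ← pow_add, Nat.add_sub_cancel' hlt.le, h]
      have hmemx : x ∈ MulAction.stabilizer L p := by
        have hcop : ((j : ℕ) - i).Coprime 19 := Nat.Coprime.symm
          ((Nat.Prime.coprime_iff_not_dvd (by norm_num)).2 fun hd => by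
            have := Nat.le_of_dvd (by omega) hd
            omega)
        obtain ⟨m, hm⟩ := exists_pow_eq_self_of_coprime (n := (j : ℕ) - i) (x := x) (hx.symm ▸ hcop)
        rw [← hm]
        exact pow_mem (show x ^ ((j : ℕ) - i) ∈ MulAction.stabilizer L p from hz) m
      exact hp (hmov p hmemx)
    have hcard : Fintype.card {r : L ⧸ N // r ≠ ((1 : L) : L ⧸ N)} = 19 := by
      rw [Fintype.card_subtype_compl, Fintype.card_subtype_eq, ← Nat.card_eq_fintype_card, ← index_eq_card, h1]
    have hsurj := ((Fintype.bijective_iff_injective_and_card f).2 ⟨hinj, by rw [hcard, Fintype.card_fin]⟩).2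
    have hyne : y • p ≠ ((1 : L) : L ⧸ N) := fun e => hp (by
      rw [← inv_smul_smul y p, e, hbase _ (inv_mem hyN)])
    obtain ⟨i, hi⟩ := hsurj ⟨y • p, hyne⟩
    have hi' : x ^ (i : ℕ) • p = y • p := congrArg Subtype.val hi
    have hcomm : Commute (x ^ (i : ℕ)) y := (show Commute x y from hc).pow_left _
    have hall : ∀ r : L ⧸ N, ((x ^ (i : ℕ))⁻¹ * y) • r = r := by
      intro r
      by_cases hr : r = ((1 : L) : L ⧸ N)
      · rw [hr]; exact hbase _ (mul_mem (inv_mem (pow_mem hxN _)) hyN)
      obtain ⟨j, hj⟩ := hsurj ⟨r, hr⟩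
      have hj' : x ^ (j : ℕ) • p = r := congrArg Subtype.val hj
      have hcj : Commute ((x ^ (i : ℕ))⁻¹ * y) (x ^ (j : ℕ)) :=
        ((Commute.pow_pow (Commute.refl x) _ _).inv_left).mul_left ((show Commute x y from hc).symm.pow_right _)
      rw [← hj', smul_smul, hcj.eq, ← smul_smul, mul_smul, ← hi', inv_smul_smul]
    have hyx : y = x ^ (i : ℕ) := (inv_mul_eq_one.1 (hfaith _ hall)).symm
    have := orderOf_dvd_natCard (⟨y, hyx ▸ pow_mem (mem_zpowers x) _⟩ : zpowers x)
    rw [Subgroup.orderOf_mk, hy, Nat.card_zpowers, hx] at this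
    rcases hq with rfl | rfl <;> norm_num at this
  · rw [h1] at hkn
    have hk' : k = 120 := by omega
    rw [hk, hk'] at hqN
    rcases hq with rfl | rfl <;> norm_num at hqN
  · -- the centraliser contains an involution
    rw [h1] at hkn
    have hk' : k = 44 := by omega
    haveI : IsCyclic (P : Subgroup L) := by rw [hPx]; infer_instance
    set φ := (P : Subgroup L).normalizerMonoidHom
    have hr : Nat.card φ.range ∣ 18 := by
      have := φ.range.card_subgroup_dvd_card
      rw [IsCyclic.card_mulAut] at this
      have hP19 : Nat.card (P : Subgroup L) = 19 := by rw [hPx, Nat.card_zpowers, hx]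
      rwa [hP19, Nat.totient_prime (by norm_num)] at this
    have hker : Nat.card φ.ker * φ.ker.index = Nat.card N := φ.ker.card_mul_index
    rw [index_ker] at hker
    have hr2 : Nat.card φ.range ∣ 2 := by
      have : Nat.card φ.range ∣ Nat.gcd 836 18 := Nat.dvd_gcd ⟨Nat.card φ.ker, by
        rw [mul_comm, hker, hk, hk']⟩ hr
      simpa using this
    have h2 : 2 ∣ Nat.card φ.ker := by
      rw [hk, hk'] at hker
      rcases (Nat.dvd_prime Nat.prime_two).1 hr2 with e | e <;> rw [e] at hker <;> omega
    haveI : Fact (Nat.Prime 2) := ⟨Nat.prime_two⟩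
    obtain ⟨i, hi⟩ := exists_prime_orderOf_dvd_card' 2 h2
    have hiC : ((i : N) : L) ∈ centralizer ((P : Subgroup L) : Set L) := by
      have h := i.2
      simp only [φ, normalizerMonoidHom_ker] at h
      exact mem_subgroupOf.1 h
    rw [← Subgroup.orderOf_coe, ← Subgroup.orderOf_coe] at hi
    have hxi : x ∈ centralizer ({((i : N) : L)} : Set L) :=
      mem_centralizer_singleton_iff.2 (hiC x (hPx ▸ mem_zpowers x))
    have := Subgroup.orderOf_dvd_natCard _ hxi
    rw [hx, hinv _ hi] at this
    norm_num at this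
  · rw [h1] at hkn
    have hk' : k = 6 := by omega
    rw [hk, hk'] at hqN
    rcases hq with rfl | rfl <;> norm_num at hqN

/-- A subgroup of odd order has order less than `1463`. -/
theorem card_odd_lt (A : Subgroup L) (hA : Odd (Nat.card A)) : Nat.card A < 1463 := by
  by_contra hlt
  have hd : Nat.card A ∣ 21945 := by
    have h := A.card_subgroup_dvd_card
    rw [hL, show (175560 : ℕ) = 2 ^ 3 * 21945 by norm_num] at h
    exact ((hA.coprime_two_right).pow_right 3).dvd_of_dvd_mul_left h
  have hmem := (List.all_eq_true.1 odd_divisors_list) (Nat.card A)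
    (List.mem_range.2 (Nat.lt_succ_of_le (Nat.le_of_dvd (by norm_num) hd)))
  simp only [Bool.or_eq_true, decide_eq_true_eq, Nat.mod_eq_zero_of_dvd hd, hlt, ne_eq, not_true_eq_false,
    false_or, List.mem_cons, List.not_mem_nil, or_false] at hmem
  have lift : ∀ {q : ℕ}, (q = 7 ∨ q = 11) → ∀ x y : A, orderOf x = 19 → orderOf y = q → x * y = y * x →
      False := fun hq x y hx hy hc => not_commute hL hinv hq (x := (x : L)) (y := (y : L))
        (by rw [Subgroup.orderOf_coe]; exact hx) (by rw [Subgroup.orderOf_coe]; exact hy)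
        (congrArg Subtype.val hc)
  haveI : Fact (Nat.Prime 19) := ⟨by norm_num⟩
  haveI : Fact (Nat.Prime 7) := ⟨by norm_num⟩
  haveI : Fact (Nat.Prime 11) := ⟨by norm_num⟩
  have h19A : 19 ∣ Nat.card A := by rcases hmem with h | h | h | h | h | h <;> rw [h] <;> norm_num
  have hsyl : ∀ (p : ℕ) [Fact p.Prime], p ∣ Nat.card A → ¬ p ^ 2 ∣ 21945 → ∀ P : Sylow p A,
      Nat.card P = p := by
    intro p _ hpA hp2 P
    obtain ⟨k, hk⟩ := IsPGroup.iff_card.1 P.2
    have h1 : k < 2 := by
      by_contra hk2
      exact hp2 (((pow_dvd_pow p (not_lt.1 hk2)).trans (hk ▸ Subgroup.card_subgroup_dvd_card _)).trans hd)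
    interval_cases k
    · exfalso
      have := P.card_mul_index
      rw [hk, pow_zero, one_mul] at this
      exact P.not_dvd_index (this ▸ hpA)
    · rw [hk, pow_one]
  have hidx : ∀ (p m : ℕ) [Fact p.Prime] (P : Sylow p A), Nat.card P = p → 21945 = p * m →
      (normalizer ((P : Subgroup A) : Set A)).index ∣ m ∧
        (normalizer ((P : Subgroup A) : Set A)).index % p = 1 := by
    intro p m _ P hP hm
    refine ⟨?_, ?_⟩
    swap
    · have e : Nat.card (Sylow p A) = (normalizer ((P : Subgroup A) : Set A)).index := P.card_eq_index_normalizer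
      rw [← e]
      have h := card_sylow_modEq_one p A
      rwa [Nat.ModEq, Nat.one_mod_eq_one.2 (Nat.Prime.ne_one Fact.out)] at h
    have h1 : p * (normalizer ((P : Subgroup A) : Set A)).index ∣ Nat.card A := by
      rw [← (normalizer ((P : Subgroup A) : Set A)).card_mul_index]
      exact Nat.mul_dvd_mul_right (hP.symm.dvd.trans (Subgroup.card_dvd_of_le le_normalizer)) _
    have h2 := h1.trans hd
    rw [hm] at h2
    exact Nat.dvd_of_mul_dvd_mul_left (Nat.Prime.pos Fact.out) h2
  by_cases h7A : 7 ∣ Nat.card A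
  · let Q : Sylow 7 A := default
    have hQ := hsyl 7 h7A (by norm_num) Q
    obtain ⟨hn1, hn2⟩ := hidx 7 3135 Q hQ (by norm_num)
    set n := (normalizer ((Q : Subgroup A) : Set A)).index with hn
    have hcase := (List.all_eq_true.1 seven_count_list) n
      (List.mem_range.2 (Nat.lt_succ_of_le (Nat.le_of_dvd (by norm_num) hn1)))
    simp only [Bool.or_eq_true, decide_eq_true_eq, Nat.mod_eq_zero_of_dvd hn1, hn2, ne_eq, not_true_eq_false,
      false_or, List.mem_cons, List.not_mem_nil, or_false] at hcase
    have hmul := (normalizer ((Q : Subgroup A) : Set A)).card_mul_index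
    rw [← hn] at hmul
    have good : ∀ k, (n = 1 ∨ n = 15) → 19 ∣ k * n → 19 ∣ k := fun k h hk =>
      ((Nat.Prime.dvd_mul (by norm_num)).1 hk).resolve_right (by rcases h with e | e <;> rw [e] <;> norm_num)
    rcases or_assoc.2 hcase with h15 | h57
    · obtain ⟨x, y, hx, hy, hc⟩ := exists_commuting_pair (q := 19) hQ (good _ h15 (hmul ▸ h19A)) (by norm_num)
      exact lift (Or.inl rfl) y x hy hx hc.symm
    · -- transfer
      have hsmall : Nat.card (normalizer ((Q : Subgroup A) : Set A)) ∣ 385 := by
        rw [h57] at hmul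
        refine Nat.dvd_of_mul_dvd_mul_right (show 0 < 57 by norm_num) ?_
        rw [hmul]; exact hd
      have hcent : normalizer ((Q : Subgroup A) : Set A) ≤ centralizer ((Q : Subgroup A) : Set A) :=
        fun y hy => mem_centralizer_of_coprime hQ hy (Nat.Coprime.coprime_dvd_left
          ((Subgroup.orderOf_dvd_natCard _ hy).trans hsmall) (by norm_num))
      have hK := MonoidHom.ker_transferSylow_isComplement' Q hcent
      set K := (MonoidHom.transferSylow Q hcent).ker
      have hKi : K.index = 7 := hK.symm.index_eq_card.trans hQ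
      have h19K : 19 ∣ Nat.card K := by
        have := K.card_mul_index
        rw [hKi] at this
        exact ((Nat.Prime.dvd_mul (by norm_num)).1 (this ▸ h19A)).resolve_right (by norm_num)
      let R : Sylow 19 K := default
      have hfr := R.normalizer_sup_eq_top
      set R' := (R : Subgroup K).map K.subtype with hR'
      have hR19 : Nat.card R' = 19 := by
        rw [hR', card_map_of_injective K.subtype_injective]
        obtain ⟨k, hk⟩ := IsPGroup.iff_card.1 R.2
        have h1 : k < 2 := by
          by_contra hk2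
          have := (((pow_dvd_pow 19 (not_lt.1 hk2)).trans (hk ▸ Subgroup.card_subgroup_dvd_card _)).trans
            K.card_subgroup_dvd_card).trans hd
          norm_num at this
        interval_cases k
        · exfalso
          have := R.card_mul_index
          rw [hk, pow_zero, one_mul] at this
          exact R.not_dvd_index (this ▸ h19K)
        · rw [hk, pow_one]
      have h7N : 7 ∣ Nat.card (normalizer ((R' : Subgroup A) : Set A)) := by
        haveI : K.Normal := MonoidHom.normal_ker _
        have hmap : (normalizer ((R' : Subgroup A) : Set A)).map (QuotientGroup.mk' K) = ⊤ := by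
          have := congrArg (Subgroup.map (QuotientGroup.mk' K)) hfr
          rwa [Subgroup.map_sup, (map_eq_bot_iff K).2 (QuotientGroup.ker_mk' K).ge, sup_bot_eq,
            map_top_of_surjective _ (QuotientGroup.mk'_surjective K)] at this
        have h := Subgroup.card_map_dvd (H := normalizer ((R' : Subgroup A) : Set A)) (QuotientGroup.mk' K)
        rw [hmap, card_top, ← index_eq_card, hKi] at h
        exact h
      obtain ⟨x, y, hx, hy, hc⟩ := exists_commuting_pair (q := 7) hR19 h7N (by norm_num)
      exact lift (Or.inl rfl) x y hx hy hc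
  · have hA3135 : Nat.card A = 3135 := by
      rcases hmem with h | h | h | h | h | h <;> first | exact h | (rw [h] at h7A; norm_num at h7A)
    let P : Sylow 19 A := default
    have hP := hsyl 19 h19A (by norm_num) P
    obtain ⟨-, hn2⟩ := hidx 19 1155 P hP (by norm_num)
    have hmul := (normalizer ((P : Subgroup A) : Set A)).card_mul_index
    rw [hA3135] at hmul
    have h11 : 11 ∣ Nat.card (normalizer ((P : Subgroup A) : Set A)) := by
      have hne : ¬ 11 ∣ (normalizer ((P : Subgroup A) : Set A)).index := by
        intro hd11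
        have hd' : (normalizer ((P : Subgroup A) : Set A)).index ∣ 165 := by
          refine Nat.dvd_of_mul_dvd_mul_left (show 0 < 19 by norm_num) ?_
          refine dvd_trans (Nat.mul_dvd_mul_right (hP.symm.dvd.trans (Subgroup.card_dvd_of_le le_normalizer)) _) ?_
          rw [hmul]
        have key : ∀ m < 166, 165 % m = 0 → m % 19 = 1 → m % 11 ≠ 0 := by decide +kernel
        exact key _ (Nat.lt_succ_of_le (Nat.le_of_dvd (by norm_num) hd')) (Nat.mod_eq_zero_of_dvd hd') hn2
          (Nat.mod_eq_zero_of_dvd hd11)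
      exact ((Nat.Prime.dvd_mul (by norm_num)).1 (hmul ▸ (by norm_num : 11 ∣ 3135))).resolve_right hne
    obtain ⟨x, y, hx, hy, hc⟩ := exists_commuting_pair (q := 11) hP h11 (by norm_num)
    exact lift (Or.inr rfl) x y hx hy hc

end Cfsg.Agent.Lib.WeakClosureJ1
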