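import Cfsg.Agent.Lib.WeakClosureJ1.Centre
import Cfsg.Agent.Lib.WeakClosureJ1.Core
import Cfsg.Agent.Lib.WeakClosureJ1.Order

/-!
The join of the weak closures is not a proper subgroup: its normaliser would be strongly embedded, and
counting involutions gives too many elements inverted by an involution in a group of odd order.
-/

set_option autoImplicit false
set_option linter.style.haveILetI false
set_option linter.unusedSectionVars false

namespace Cfsg.Agent.Lib.WeakClosureJ1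

open Subgroup Cfsg.Agent.Lib.J1Order

universe u

/-- The class of `t` under a subgroup has size the relative index of the centraliser. -/
theorem card_class {G : Type*} [Group G] [Finite G] (H : Subgroup G) (t : G) :
    Nat.card {x : G | ∃ k ∈ H, k * t * k⁻¹ = x} = (centralizer ({t} : Set G)).relIndex H := by
  set C := centralizer ({t} : Set G)
  rw [relIndex, index_eq_card]
  let f : H ⧸ C.subgroupOf H → {x : G | ∃ k ∈ H, k * t * k⁻¹ = x} := Quotient.lift
    (fun k : H => ⟨(k : G) * t * (k : G)⁻¹, k, k.2, rfl⟩) (fun a b hab => by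
      have hab' := mem_centralizer_singleton_iff.1 (mem_subgroupOf.1 (QuotientGroup.leftRel_apply.1 hab))
      refine Subtype.ext ?_
      show (a : G) * t * (a : G)⁻¹ = (b : G) * t * (b : G)⁻¹
      simp only [coe_mul, coe_inv] at hab'
      calc (a : G) * t * (a : G)⁻¹ = a * (t * ((a : G)⁻¹ * b)) * (b : G)⁻¹ := by group
        _ = a * ((a : G)⁻¹ * b * t) * (b : G)⁻¹ := by rw [hab']
        _ = b * t * (b : G)⁻¹ := by group)
  refine (Nat.card_congr (Equiv.ofBijective f ⟨?_, ?_⟩)).symm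
  · intro a b
    induction a using QuotientGroup.induction_on with | H a =>
    induction b using QuotientGroup.induction_on with | H b =>
    intro hab
    have hab' : (a : G) * t * (a : G)⁻¹ = (b : G) * t * (b : G)⁻¹ := congrArg Subtype.val hab
    refine QuotientGroup.eq.2 (mem_subgroupOf.2 (mem_centralizer_singleton_iff.2 ?_))
    calc ((a : G)⁻¹ * b) * t = (a : G)⁻¹ * ((b : G) * t * (b : G)⁻¹) * b := by group
      _ = (a : G)⁻¹ * ((a : G) * t * (a : G)⁻¹) * b := by rw [hab']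
      _ = t * ((a : G)⁻¹ * b) := by group
  · rintro ⟨x, k, hk, rfl⟩
    exact ⟨QuotientGroup.mk (⟨k, hk⟩ : H), rfl⟩

variable {G : Type u} [Group G] [Finite G] {t : G} {S : Sylow 2 G}

namespace Setup

variable (h : Setup t S) (htop : normalClosure ({t} : Set G) = ⊤) (hZ : center G = ⊥)
  (IH : ∀ (H : Type u) [Group H] [Finite H], Nat.card H < Nat.card G →
    ∀ s : H, Config s → Cfsg.Spor.IsoJ1 ↥(normalClosure ({s} : Set H)))
include h htop hZ IH

/-- The hypotheses and the conclusion in a proper subgroup containing the join. -/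
theorem isoJ1_subgroup {K : Subgroup G} (hK : joinWc S t ≤ K) (hne : K ≠ ⊤) :
    Cfsg.Spor.IsoJ1 ↥(normalClosure ({(⟨t, hK h.t_mem_joinWc⟩ : K)} : Set K)) := by
  have hSK : (S : Subgroup G) ≤ K := (h.sylow_eq htop hZ).le.trans (h.E_le_joinWc.trans hK)
  have hconf := h.config_subgroup hK (S.subtype hSK) (mem_subgroupOf.2 h.mem)
    (fun s hs => h.comm s (mem_subgroupOf.1 hs))
  refine IH K (lt_of_le_of_ne (Subgroup.card_le_card_group K) fun e => hne ?_) _ hconf
  exact eq_top_of_card_eq K e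

omit IH in
/-- The join lies in every normal closure of `t` taken in a subgroup containing it. -/
theorem joinWc_le_normalClosure {K : Subgroup G} (hK : joinWc S t ≤ K) :
    (joinWc S t).subgroupOf K ≤ normalClosure ({(⟨t, hK h.t_mem_joinWc⟩ : K)} : Set K) := by
  intro x hx
  set tK : K := ⟨t, hK h.t_mem_joinWc⟩ with htK
  set N := normalClosure ({tK} : Set K) with hN
  have h1 : joinWc S t ≤ N.map K.subtype := by
    refine h.joinWc_le_closure.trans ((closure_le _).2 ?_)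
    rintro _ ⟨k, hk, rfl⟩
    have htN : tK ∈ N := subset_normalClosure (Set.mem_singleton tK)
    have hkN : (⟨k, hK hk⟩ : K) * tK * (⟨k, hK hk⟩ : K)⁻¹ ∈ N :=
      (normalClosure_normal : N.Normal).conj_mem tK htN ⟨k, hK hk⟩
    exact ⟨_, hkN, rfl⟩
  obtain ⟨y, hy, hyx⟩ := h1 (mem_subgroupOf.1 hx)
  rwa [← K.subtype_injective hyx]

/-- A proper join leads to a contradiction. -/
theorem false_of_proper (hne : joinWc S t ≠ ⊤) : False := by
  classical
  haveI : Fact (Nat.Prime 2) := ⟨Nat.prime_two⟩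
  haveI : IsSimpleGroup G := h.isSimpleGroup htop hZ
  set L := joinWc S t with hLd
  set Q := centralizer (L : Set G) with hQd
  set C := centralizer ({t} : Set G) with hCd
  set M := normalizer (L : Set G) with hMd
  have htL : t ∈ L := h.t_mem_joinWc
  have hSL : (S : Subgroup G) ≤ L := (h.sylow_eq htop hZ).le.trans h.E_le_joinWc
  -- the group `L`
  have hLtop : normalClosure ({(⟨t, le_refl L htL⟩ : L)} : Set L) = ⊤ :=
    eq_top_iff.2 ((subgroupOf_self L).ge.trans (h.joinWc_le_normalClosure htop hZ le_rfl))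
  have hJ : Cfsg.Spor.IsoJ1 L := by
    obtain ⟨e⟩ := h.isoJ1_subgroup htop hZ IH le_rfl hne
    exact ⟨((MulEquiv.subgroupCongr hLtop).trans topEquiv).symm.trans e⟩
  haveI hLs : IsSimpleGroup L := simple_isoJ1 hJ
  have hcardL : Nat.card L = 175560 := card_isoJ1 hJ
  have hLQ : L ⊓ Q = ⊥ := by
    have hc : center L = ⊥ := by
      refine (inferInstance : (center L).Normal).eq_bot_or_eq_top.resolve_right fun e => ?_
      have hle : L ≤ zpowers t := h.joinWc_le_closure.trans ((closure_le _).2 (by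
        rintro _ ⟨k, hk, rfl⟩
        have h1 : t * k = k * t := congrArg Subtype.val
          (mem_center_iff.1 (e.ge (mem_top (⟨k, hk⟩ : L))) ⟨t, htL⟩)
        rw [← h1, mul_inv_cancel_right]
        exact mem_zpowers t))
      have := Subgroup.card_le_of_le hle
      rw [hcardL, Nat.card_zpowers, h.order] at this
      omega
    refine eq_bot_iff.2 fun x hx => ?_
    have hxc : (⟨x, hx.1⟩ : L) ∈ center L := mem_center_iff.2 fun y => Subtype.ext (hx.2 y y.2)
    rw [hc, mem_bot] at hxc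
    exact mem_bot.2 (congrArg Subtype.val hxc)
  have hwC : wc t ≤ C := wc_le t
  have hwL : wc t ≤ L := h.wc_t_le_joinWc
  have hCmul : ∀ g ∈ C, ∃ w ∈ wc t, ∃ q ∈ Q, g = w * q :=
    fun g hg => h.exists_mul h.t_mem_E h.t_ne_one hg
  have hCL : C ⊓ L = wc t := by
    refine le_antisymm (fun g hg => ?_) (le_inf hwC hwL)
    obtain ⟨w, hw, q, hq, hgq⟩ := hCmul g hg.1
    have hqL : q ∈ L := by
      rw [show q = w⁻¹ * g by rw [hgq, inv_mul_cancel_left]]
      exact mul_mem (inv_mem (hwL hw)) hg.2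
    have hq1 : q ∈ (⊥ : Subgroup G) := hLQ ▸ ⟨hqL, hq⟩
    rw [mem_bot] at hq1
    rwa [hgq, hq1, mul_one]
  have hw120 : Nat.card (wc t) = 120 := by
    obtain ⟨ι, hι⟩ := h.exists_frame_t
    exact hι.card
  have hinL : ∀ i ∈ L, orderOf i = 2 → ∃ k ∈ L, k * t * k⁻¹ = i := by
    intro i hi hi2
    obtain ⟨P, hP⟩ := (IsPGroup.of_card (n := 1) (by
      rw [Nat.card_zpowers, Subgroup.orderOf_mk, hi2, pow_one]) :
        IsPGroup 2 (zpowers (⟨i, hi⟩ : L))).exists_le_sylow
    obtain ⟨l, hl⟩ := MulAction.exists_smul_eq L P (S.subtype hSL)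
    have hm : (l : G) * i * (l : G)⁻¹ ∈ sylE S t := by
      rw [← h.sylow_eq htop hZ]
      have h1 : l * ⟨i, hi⟩ * l⁻¹ ∈ (S.subtype hSL : Subgroup L) := by
        rw [← hl, Sylow.coe_subgroup_smul]
        exact ⟨_, hP (mem_zpowers _), rfl⟩
      exact h1
    have hne1 : (l : G) * i * (l : G)⁻¹ ≠ 1 := fun e => by
      rw [conj_eq_one_iff] at e
      rw [e, orderOf_one] at hi2
      norm_num at hi2
    obtain ⟨n, hn, hnt⟩ := h.exists_turns_conj hm hne1
    refine ⟨(l : G)⁻¹ * n, mul_mem (inv_mem l.2) (h.turns_le_joinWc hn), ?_⟩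
    rw [show (l : G)⁻¹ * n * t * ((l : G)⁻¹ * n)⁻¹ = (l : G)⁻¹ * (n * t * n⁻¹) * l by group, hnt]
    group
  have hinvL : ∀ i : L, orderOf i = 2 → Nat.card (centralizer ({i} : Set L)) = 120 := by
    intro i hi
    rw [← Subgroup.orderOf_coe] at hi
    obtain ⟨k, hk, hki⟩ := hinL i i.2 hi
    have hmap : (centralizer ({i} : Set L)).map L.subtype = (wc t).map (MulAut.conj k).toMonoidHom := by
      ext g
      constructor
      · rintro ⟨c, hc, rfl⟩
        have hc' : (c : G) * i = i * c := congrArg Subtype.val (mem_centralizer_singleton_iff.1 hc)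
        refine ⟨k⁻¹ * c * k, hCL.le (mem_inf.2 ⟨mem_centralizer_singleton_iff.2 ?_,
          mul_mem (mul_mem (inv_mem hk) c.2) hk⟩), ?_⟩
        · rw [← hki] at hc'
          calc k⁻¹ * c * k * t = k⁻¹ * ((c : G) * (k * t * k⁻¹)) * k := by group
            _ = k⁻¹ * ((k * t * k⁻¹) * c) * k := by rw [hc']
            _ = t * (k⁻¹ * c * k) := by group
        · show k * (k⁻¹ * c * k) * k⁻¹ = (c : G)
          group
      · rintro ⟨w, hw, rfl⟩
        refine ⟨⟨k * w * k⁻¹, mul_mem (mul_mem hk (hwL hw)) (inv_mem hk)⟩,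
          mem_centralizer_singleton_iff.2 (Subtype.ext ?_), rfl⟩
        show k * w * k⁻¹ * i = i * (k * w * k⁻¹)
        rw [← hki]
        calc k * w * k⁻¹ * (k * t * k⁻¹) = k * (w * t) * k⁻¹ := by group
          _ = k * (t * w) * k⁻¹ := by rw [mem_centralizer_singleton_iff.1 (hwC hw)]
          _ = k * t * k⁻¹ * (k * w * k⁻¹) := by group
    rw [← card_map_of_injective L.subtype_injective, hmap,
      card_map_of_injective (MulAut.conj k).injective, hw120]
  have hCr : C.relIndex L = 1463 := by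
    have h1 := (C.subgroupOf L).card_mul_index
    rw [← card_map_of_injective L.subtype_injective, subgroupOf_map_subtype, hCL, hw120, hcardL] at h1
    rw [relIndex]
    omega
  -- the strongly embedded normaliser
  have hLM : L ≤ M := le_normalizer
  have hQM : Q ≤ M := centralizer_le_normalizer _
  have hCM : C ≤ M := fun g hg => by
    obtain ⟨w, hw, q, hq, rfl⟩ := hCmul g hg
    exact mul_mem (hLM (hwL hw)) (hQM hq)
  have hMtop : M ≠ ⊤ := fun e => by
    rcases (normalizer_eq_top_iff.1 e : L.Normal).eq_bot_or_eq_top with e1 | e1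
    · exact h.t_ne_one (by rw [e1, mem_bot] at htL; exact htL)
    · exact hne e1
  have hconjL : ∀ m ∈ M, ∀ x ∈ L, m * x * m⁻¹ ∈ L := fun m hm x hx => (mem_normalizer_iff.1 hm x).1 hx
  have hconjQ : ∀ m ∈ M, ∀ x ∈ Q, m * x * m⁻¹ ∈ Q := fun m hm x hx l hl => by
    have h1 := hx _ (hconjL m⁻¹ (inv_mem hm) l hl)
    calc l * (m * x * m⁻¹) = m * ((m⁻¹ * l * m⁻¹⁻¹) * x) * m⁻¹ := by group
      _ = m * (x * (m⁻¹ * l * m⁻¹⁻¹)) * m⁻¹ := by rw [h1]
      _ = m * x * m⁻¹ * l := by group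
  have hMinv : ∀ j ∈ M, orderOf j = 2 → j ∈ L := by
    intro j hj hj2
    obtain ⟨P, hP⟩ := (IsPGroup.of_card (n := 1) (by
      rw [Nat.card_zpowers, Subgroup.orderOf_mk, hj2, pow_one]) :
        IsPGroup 2 (zpowers (⟨j, hj⟩ : M))).exists_le_sylow
    obtain ⟨l, hl⟩ := MulAction.exists_smul_eq M P (S.subtype (hSL.trans hLM))
    have h1 : l * ⟨j, hj⟩ * l⁻¹ ∈ (S.subtype (hSL.trans hLM) : Subgroup M) := by
      rw [← hl, Sylow.coe_subgroup_smul]
      exact ⟨_, hP (mem_zpowers _), rfl⟩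
    have h2 : (l : G) * j * (l : G)⁻¹ ∈ L := hSL h1
    exact (mem_normalizer_iff.1 l.2 j).2 h2
  have hSE : ∀ g i : G, i ∈ M → orderOf i = 2 → g * i * g⁻¹ ∈ M → g ∈ M := by
    intro g i hi hi2 hgi
    have hgi2 : orderOf (g * i * g⁻¹) = 2 := by
      rw [show g * i * g⁻¹ = MulAut.conj g i from rfl, MulEquiv.orderOf_eq, hi2]
    obtain ⟨k, hk, hki⟩ := hinL i (hMinv i hi hi2) hi2
    obtain ⟨l, hl, hli⟩ := hinL _ (hMinv _ hgi hgi2) hgi2
    have hc : l⁻¹ * g * k ∈ C := mem_centralizer_singleton_iff.2 (by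
      calc l⁻¹ * g * k * t = l⁻¹ * (g * (k * t * k⁻¹) * g⁻¹) * g * k := by group
        _ = l⁻¹ * (g * i * g⁻¹) * g * k := by rw [hki]
        _ = l⁻¹ * (l * t * l⁻¹) * g * k := by rw [hli]
        _ = t * (l⁻¹ * g * k) := by group)
    rw [show g = l * (l⁻¹ * g * k) * k⁻¹ by group]
    exact mul_mem (mul_mem (hLM hl) (hCM hc)) (inv_mem (hLM hk))
  have hdec : ∀ m ∈ M, ∃ l ∈ L, ∃ q ∈ Q, m = l * q := by
    intro m hm
    have ho : orderOf (m * t * m⁻¹) = 2 := by
      rw [show m * t * m⁻¹ = MulAut.conj m t from rfl, MulEquiv.orderOf_eq, h.order]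
    obtain ⟨k, hk, hkt⟩ := hinL _ (hconjL m hm t htL) ho
    have hc : k⁻¹ * m ∈ C := mem_centralizer_singleton_iff.2 (by
      calc k⁻¹ * m * t = k⁻¹ * (m * t * m⁻¹) * m := by group
        _ = k⁻¹ * (k * t * k⁻¹) * m := by rw [hkt]
        _ = t * (k⁻¹ * m) := by group)
    obtain ⟨w, hw, q, hq, hwq⟩ := hCmul _ hc
    exact ⟨k * w, mul_mem hk (hwL hw), q, hq, by rw [mul_assoc, ← hwq, mul_inv_cancel_left]⟩
  -- counting involutions
  letI : Fintype G := Fintype.ofFinite G
  letI : Fintype (G ⧸ M) := Fintype.ofFinite _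
  let I : Finset G := Finset.univ.filter fun x => orderOf x = 2
  have hI : I.card = 1463 * M.index := by
    have h1 : I.card = C.index := by
      have hset : {x : G | ∃ k ∈ (⊤ : Subgroup G), k * t * k⁻¹ = x} = (I : Set G) := by
        ext x
        simp only [Set.mem_setOf_eq, mem_top, true_and, I, Finset.coe_filter, Finset.mem_univ]
        constructor
        · rintro ⟨k, rfl⟩
          rw [show k * t * k⁻¹ = MulAut.conj k t from rfl, MulEquiv.orderOf_eq, h.order]
        · exact fun hx => isConj_iff.1 (h.isConj_involution htop hZ hx)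
      have h2 := card_class (⊤ : Subgroup G) t
      rw [hset, relIndex_top_right, Nat.card_coe_set_eq, Set.ncard_coe_finset] at h2
      exact h2
    have h2 : C.relIndex M = 1463 := by
      rw [← hCr, ← card_class M t, ← card_class L t]
      refine congrArg (fun X : Set G => Nat.card X) (Set.ext fun x => ⟨?_, ?_⟩)
      · rintro ⟨k, hk, rfl⟩
        exact hinL _ (hconjL k hk t htL) (by
          rw [show k * t * k⁻¹ = MulAut.conj k t from rfl, MulEquiv.orderOf_eq, h.order])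
      · rintro ⟨k, hk, rfl⟩
        exact ⟨k, hLM hk, rfl⟩
    rw [h1, ← relIndex_mul_index hCM, h2]
  let Iin : Finset G := I.filter fun x => x ∈ M
  let Iout : Finset G := I.filter fun x => x ∉ M
  have hIin : Iin.card = 1463 := by
    have hset : {x : G | ∃ k ∈ L, k * t * k⁻¹ = x} = (Iin : Set G) := by
      ext x
      simp only [Set.mem_setOf_eq, Iin, I, Finset.coe_filter, Finset.mem_filter, Finset.mem_univ, true_and]
      constructor
      · rintro ⟨k, hk, rfl⟩
        exact ⟨by rw [show k * t * k⁻¹ = MulAut.conj k t from rfl, MulEquiv.orderOf_eq, h.order],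
          hLM (mul_mem (mul_mem hk htL) (inv_mem hk))⟩
      · exact fun hx => hinL x (hMinv x hx.2 hx.1) hx.1
    have h1 := card_class L t
    rw [hset, Nat.card_coe_set_eq, Set.ncard_coe_finset, hCr] at h1
    exact h1
  have hsum : Iin.card + Iout.card = I.card := Finset.card_filter_add_card_filter_not _
  have hn2 : 2 ≤ M.index := by
    have h0 : M.index ≠ 0 := index_ne_zero_of_finite
    have h1 : M.index ≠ 1 := fun e => hMtop (index_eq_one.1 e)
    omega
  let base : G ⧸ M := ((1 : G) : G ⧸ M)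
  obtain ⟨c, -, hc⟩ := Finset.exists_le_card_fiber_of_mul_le_card_of_maps_to
    (s := Iout) (t := (Finset.univ : Finset (G ⧸ M)).erase base) (f := fun x => (x : G ⧸ M)) (n := 1463)
    (fun x hx => Finset.mem_erase.2 ⟨fun e => (Finset.mem_filter.1 hx).2 (by
      simpa using inv_mem (show x⁻¹ * 1 ∈ M from QuotientGroup.eq.1 e)), Finset.mem_univ _⟩)
    (Finset.card_pos.1 (by
      rw [Finset.card_erase_of_mem (Finset.mem_univ _), Finset.card_univ, ← Nat.card_eq_fintype_card,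
        ← index_eq_card]
      omega))
    (by
      rw [Finset.card_erase_of_mem (Finset.mem_univ _), Finset.card_univ, ← Nat.card_eq_fintype_card,
        ← index_eq_card]
      rw [hI, hIin] at hsum
      have : (M.index - 1) * 1463 + 1463 = 1463 * M.index := by
        rw [← Nat.succ_mul, Nat.succ_eq_add_one, Nat.sub_add_cancel (by omega), mul_comm]
      omega)
  set F := Iout.filter fun x : G => (x : G ⧸ M) = c with hF
  obtain ⟨s, hs⟩ := Finset.card_pos.1 (lt_of_lt_of_le (by norm_num) hc)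
  have hs' : (orderOf s = 2 ∧ s ∉ M) ∧ (s : G ⧸ M) = c := by
    simpa [F, Iout, I] using hs
  obtain ⟨⟨hs2, hsM⟩, hsc⟩ := hs'
  have hss : s * s = 1 := by rw [← pow_two, ← hs2, pow_orderOf_eq_one]
  have hsinv : s⁻¹ = s := inv_eq_of_mul_eq_one_right hss
  let D : Subgroup G := M ⊓ M.comap (MulAut.conj s).toMonoidHom
  have hD : ∀ x, x ∈ D ↔ x ∈ M ∧ s * x * s⁻¹ ∈ M := fun x => Iff.rfl
  have hDs : ∀ x ∈ D, s * x * s⁻¹ ∈ D := fun x hx => (hD _).2 ⟨((hD x).1 hx).2, by
    rw [show s * (s * x * s⁻¹) * s⁻¹ = (s * s) * x * (s * s)⁻¹ by group, hss, one_mul, inv_one, mul_one]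
    exact ((hD x).1 hx).1⟩
  have hDodd : Odd (Nat.card D) := by
    rw [Nat.odd_iff, ← Nat.two_dvd_ne_zero]
    intro h2
    obtain ⟨j, hj⟩ := exists_prime_orderOf_dvd_card' 2 h2
    rw [← Subgroup.orderOf_coe] at hj
    exact hsM (hSE s j ((hD _).1 j.2).1 hj ((hD _).1 j.2).2)
  -- `Q` meets its conjugate trivially
  have hY : ∀ x ∈ Q, s * x * s⁻¹ ∈ Q → x = 1 := by
    intro x hx hsx
    by_contra hx1
    set X := centralizer ({x} : Set G) with hXd
    have hLX : L ≤ X := fun l hl => mem_centralizer_singleton_iff.2 (hx l hl)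
    have hXtop : X ≠ ⊤ := fun e => hx1 (by
      have : x ∈ center G := mem_center_iff.2 fun g => mem_centralizer_singleton_iff.1 (e.ge (mem_top g))
      rwa [hZ, mem_bot] at this)
    set N := normalClosure ({(⟨t, hLX h.t_mem_joinWc⟩ : X)} : Set X) with hN
    have hNJ : Cfsg.Spor.IsoJ1 N := h.isoJ1_subgroup htop hZ IH hLX hXtop
    have hNeq : L.subgroupOf X = N := eq_of_le_of_card_ge (h.joinWc_le_normalClosure htop hZ hLX) (by
      rw [card_isoJ1 hNJ, Nat.card_congr (subgroupOfEquivOfLe hLX).toEquiv, hcardL])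
    have hXM : X ≤ M := by
      intro g hg
      have key : ∀ g ∈ X, ∀ l ∈ L, g * l * g⁻¹ ∈ L := fun g hg l hl => by
        have h1 : (⟨l, hLX hl⟩ : X) ∈ N := hNeq ▸ mem_subgroupOf.2 hl
        have h2 : (⟨g, hg⟩ : X) * ⟨l, hLX hl⟩ * (⟨g, hg⟩ : X)⁻¹ ∈ N :=
          (normalClosure_normal : N.Normal).conj_mem _ h1 ⟨g, hg⟩
        rw [← hNeq] at h2
        exact h2
      refine mem_normalizer_iff.2 fun l => ⟨key g hg l, fun hl => ?_⟩
      have := key g⁻¹ (inv_mem hg) _ hl
      rwa [show g⁻¹ * (g * l * g⁻¹) * g⁻¹⁻¹ = l by group] at this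
    have hstX : s * t * s⁻¹ ∈ X := mem_centralizer_singleton_iff.2 (by
      have h1 := hsx t htL
      calc s * t * s⁻¹ * x = s * (t * (s⁻¹ * x * s)) * s⁻¹ := by group
        _ = s * (t * (s * x * s⁻¹)) * s⁻¹ := by rw [hsinv]
        _ = s * ((s * x * s⁻¹) * t) * s⁻¹ := by rw [h1]
        _ = (s * s) * x * (s * s)⁻¹ * (s * t * s⁻¹) := by group
        _ = x * (s * t * s⁻¹) := by rw [hss, one_mul, inv_one, mul_one])
    exact hsM (hSE s t (hLM htL) h.order (hXM hstX))
  -- the projection to `L`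
  have huniq : ∀ l₁ ∈ L, ∀ l₂ ∈ L, ∀ q₁ ∈ Q, ∀ q₂ ∈ Q, l₁ * q₁ = l₂ * q₂ → l₁ = l₂ := by
    intro l₁ hl₁ l₂ hl₂ q₁ hq₁ q₂ hq₂ e
    have h1 : l₂⁻¹ * l₁ = q₂ * q₁⁻¹ := by
      calc l₂⁻¹ * l₁ = l₂⁻¹ * (l₁ * q₁) * q₁⁻¹ := by group
        _ = q₂ * q₁⁻¹ := by rw [e]; group
    have h2 : l₂⁻¹ * l₁ ∈ (⊥ : Subgroup G) :=
      hLQ ▸ mem_inf.2 ⟨mul_mem (inv_mem hl₂) hl₁, h1 ▸ mul_mem hq₂ (inv_mem hq₁)⟩
    rw [mem_bot, inv_mul_eq_one] at h2
    exact h2.symm
  choose pl hpl pq hpq hpe using fun d : D => hdec d ((hD _).1 d.2).1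
  let π : D →* L := MonoidHom.mk' (fun d => ⟨pl d, hpl d⟩) fun a b => Subtype.ext (by
    show pl (a * b) = pl a * pl b
    refine huniq _ (hpl _) _ (mul_mem (hpl a) (hpl b)) _ (hpq (a * b)) _ (mul_mem (hpq a) (hpq b)) ?_
    rw [← hpe (a * b), coe_mul, hpe a, hpe b]
    have hc : pl b * pq a = pq a * pl b := hpq a _ (hpl b)
    calc pl a * pq a * (pl b * pq b) = pl a * (pq a * pl b) * pq b := by group
      _ = pl a * (pl b * pq a) * pq b := by rw [hc]
      _ = pl a * pl b * (pq a * pq b) := by group)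
  have hkerQ : ∀ d ∈ π.ker, (d : G) ∈ Q := fun d hd => by
    have h1 : pl d = 1 := congrArg Subtype.val hd
    rw [hpe d, h1, one_mul]
    exact hpq d
  have hA : Nat.card π.range < 1463 := by
    refine card_odd_lt hcardL hinvL π.range (hDodd.of_dvd_nat ?_)
    exact card_range_dvd π
  -- inverted elements
  let J : Set D := {d : D | s * (d : G) * s⁻¹ = (d : G)⁻¹}
  have hkc : ∀ y : π.ker, ∀ z : π.ker,
      ((y : D) : G) * (s * ((z : D) : G) * s⁻¹) = s * ((z : D) : G) * s⁻¹ * ((y : D) : G) := by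
    intro y z
    set a : G := ((y : D) : G) with ha
    set b : G := ((z : D) : G) with hb
    have haQ : a ∈ Q := hkerQ _ y.2
    have hbQ : b ∈ Q := hkerQ _ z.2
    have hsbM : s * b * s⁻¹ ∈ M := ((hD b).1 (z : D).2).2
    have hsaM : s * a * s⁻¹ ∈ M := ((hD a).1 (y : D).2).2
    have hv := hY (a * (s * b * s⁻¹) * a⁻¹ * (s * b * s⁻¹)⁻¹) ?_ ?_
    · calc a * (s * b * s⁻¹) = (a * (s * b * s⁻¹) * a⁻¹ * (s * b * s⁻¹)⁻¹) * ((s * b * s⁻¹) * a) := by group
        _ = s * b * s⁻¹ * a := by rw [hv, one_mul]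
    · rw [show a * (s * b * s⁻¹) * a⁻¹ * (s * b * s⁻¹)⁻¹ =
        a * ((s * b * s⁻¹) * a⁻¹ * (s * b * s⁻¹)⁻¹) by group]
      exact mul_mem haQ (hconjQ _ hsbM _ (inv_mem haQ))
    · have e : s * (a * (s * b * s⁻¹) * a⁻¹ * (s * b * s⁻¹)⁻¹) * s⁻¹ =
          (s * a * s⁻¹) * ((s * s) * b * (s * s)⁻¹) * (s * a * s⁻¹)⁻¹ * ((s * s) * b * (s * s)⁻¹)⁻¹ := by
        group
      rw [e, hss, one_mul, inv_one, mul_one]
      exact mul_mem (hconjQ _ hsaM _ hbQ) (inv_mem hbQ)
  let f : J × π.ker → D := fun p =>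
    ⟨((p.1 : D) : G) * (((p.2 : D) : G) * (s * ((p.2 : D) : G) * s⁻¹)),
      mul_mem (p.1 : D).2 (mul_mem (p.2 : D).2 (hDs _ (p.2 : D).2))⟩
  have hfixed : ∀ y : π.ker, s * (((y : D) : G) * (s * ((y : D) : G) * s⁻¹)) * s⁻¹ =
      ((y : D) : G) * (s * ((y : D) : G) * s⁻¹) := by
    intro y
    set a : G := ((y : D) : G)
    calc s * (a * (s * a * s⁻¹)) * s⁻¹ = (s * a * s⁻¹) * ((s * s) * a * (s * s)⁻¹) := by group
      _ = (s * a * s⁻¹) * a := by rw [hss, one_mul, inv_one, mul_one]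
      _ = a * (s * a * s⁻¹) := (hkc y y).symm
  have hf : Function.Injective f := by
    rintro ⟨⟨j, hj⟩, y⟩ ⟨⟨j', hj'⟩, y'⟩ e
    have e' : (j : G) * (((y : D) : G) * (s * ((y : D) : G) * s⁻¹)) =
        (j' : G) * (((y' : D) : G) * (s * ((y' : D) : G) * s⁻¹)) := congrArg Subtype.val e
    set c := ((y : D) : G) * (s * ((y : D) : G) * s⁻¹) with hcd
    set c' := ((y' : D) : G) * (s * ((y' : D) : G) * s⁻¹) with hcd'
    have hd : (j' : G)⁻¹ * j = c' * c⁻¹ := by
      calc (j' : G)⁻¹ * j = (j' : G)⁻¹ * ((j : G) * c) * c⁻¹ := by group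
        _ = c' * c⁻¹ := by rw [e']; group
    have hsd : s * ((j' : G)⁻¹ * j) * s⁻¹ = (j' : G)⁻¹ * j := by
      rw [hd, show s * (c' * c⁻¹) * s⁻¹ = (s * c' * s⁻¹) * (s * c * s⁻¹)⁻¹ by group, hfixed y, hfixed y']
    have hj1 : s * (j : G) * s⁻¹ = (j : G)⁻¹ := hj
    have hj1' : s * (j' : G) * s⁻¹ = (j' : G)⁻¹ := hj'
    rw [show s * ((j' : G)⁻¹ * j) * s⁻¹ = (s * (j' : G) * s⁻¹)⁻¹ * (s * j * s⁻¹) by group, hj1, hj1',
      inv_inv] at hsd
    have hsq : ((j' : D) : G) ^ 2 = ((j : D) : G) ^ 2 := by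
      rw [pow_two, pow_two]
      calc ((j' : D) : G) * (j' : G) = (j' : G) * ((j' : G) * (j : G)⁻¹) * j := by group
        _ = (j' : G) * ((j' : G)⁻¹ * j) * j := by rw [hsd]
        _ = ((j : D) : G) * (j : G) := by group
    have hjj : j' = j := (powCoprime (hDodd.coprime_two_right : (Nat.card D).Coprime 2)).injective
      (show j' ^ 2 = j ^ 2 from Subtype.ext (by simpa using hsq))
    subst hjj
    have hcc : c = c' := mul_left_cancel e'
    have hyy : ((y' : D) : G)⁻¹ * ((y : D) : G) = 1 := by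
      refine hY _ (mul_mem (inv_mem (hkerQ _ y'.2)) (hkerQ _ y.2)) ?_
      have h1 : ((y' : D) : G)⁻¹ * ((y : D) : G) =
          s * ((y' : D) : G) * s⁻¹ * (s * ((y : D) : G) * s⁻¹)⁻¹ := by
        calc ((y' : D) : G)⁻¹ * ((y : D) : G)
            = ((y' : D) : G)⁻¹ * c * (s * ((y : D) : G) * s⁻¹)⁻¹ := by rw [hcd]; group
          _ = _ := by rw [hcc, hcd']; group
      rw [h1, show s * (s * ((y' : D) : G) * s⁻¹ * (s * ((y : D) : G) * s⁻¹)⁻¹) * s⁻¹ =
        (s * s) * (((y' : D) : G) * ((y : D) : G)⁻¹) * (s * s)⁻¹ by group, hss, one_mul, inv_one, mul_one]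
      exact mul_mem (hkerQ _ y'.2) (inv_mem (hkerQ _ y.2))
    rw [inv_mul_eq_one] at hyy
    exact Prod.ext rfl (Subtype.ext (Subtype.ext hyy.symm))
  have hle : Nat.card J * Nat.card π.ker ≤ Nat.card π.range * Nat.card π.ker := by
    rw [← Nat.card_prod]
    refine (Nat.card_le_card_of_injective f hf).trans_eq ?_
    rw [← π.ker.card_mul_index, index_ker, mul_comm]
  have hJA : Nat.card J ≤ Nat.card π.range := Nat.le_of_mul_le_mul_right hle Nat.card_pos
  have hFJ : F.card ≤ Nat.card J := by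
    have hmem : ∀ i ∈ F, ∃ d : J, ((d : D) : G) = s * i := by
      intro i hi
      have hi' : (orderOf i = 2 ∧ i ∉ M) ∧ (i : G ⧸ M) = c := by simpa [F, Iout, I] using hi
      have hiM : s * i ∈ M := by
        have := QuotientGroup.eq.1 (hsc.trans hi'.2.symm)
        rwa [hsinv] at this
      have hii : i * i = 1 := by rw [← pow_two, ← hi'.1.1, pow_orderOf_eq_one]
      have hinv : s * (s * i) * s⁻¹ = (s * i)⁻¹ := by
        rw [mul_inv_rev, hsinv, inv_eq_of_mul_eq_one_right hii, ← mul_assoc, hss, one_mul]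
      exact ⟨⟨⟨s * i, (hD _).2 ⟨hiM, hinv ▸ inv_mem hiM⟩⟩, hinv⟩, rfl⟩
    choose g hg using hmem
    rw [← Nat.card_eq_finsetCard]
    refine Nat.card_le_card_of_injective (fun i : F => g i i.2) fun a b e => Subtype.ext ?_
    have h1 : ((g a a.2 : D) : G) = ((g b b.2 : D) : G) := congrArg (fun d : J => ((d : D) : G)) e
    rw [hg, hg] at h1
    exact mul_left_cancel h1
  have : 1463 ≤ F.card := hc
  omega

end Setup

end Cfsg.Agent.Lib.WeakClosureJ1
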